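import Mathlib
import Cfsg.Agent.Lib.Helper24.Brauer16

set_option autoImplicit false

namespace Cfsg.Agent.Lib.Helper24.Brauer

open Cfsg Cfsg.Agent.Lib.Helper1 Cfsg.Agent.Lib.Helper6 Cfsg.Agent.Lib.Helper24
open scoped ComplexConjugate

universe u

section nil3

variable {G : Type u} [Group G] [Fintype G] {M : Ideal AlgInt}

theorem nil_local {p : ℕ} [Fact p.Prime] (hM : IsPModular p M)
    (B : Set (IrrCharacter G)) (hnil : IsNilpotentBlock p M B) (Q : Subgroup G)
    (f : Set (IrrCharacter (Subgroup.centralizer (Q : Set G))))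
    (hQf : IsBrauerPairOf p M B Q f) : IsNilpotentBlock p M f := by
  refine ⟨hQf.1.2, fun R' h' hpair' x hxN hxst hxreg => ?_⟩
  obtain ⟨S, hS⟩ : ∃ S : Subgroup G,
      S = Q ⊔ R'.map (Subgroup.centralizer (Q : Set G)).subtype := ⟨_, rfl⟩
  have hRK : R'.map (Subgroup.centralizer (Q : Set G)).subtype
      ≤ Subgroup.centralizer (Q : Set G) := Subgroup.map_subtype_le _
  have hQS : Q ≤ S := by
    rw [hS]
    exact le_sup_left
  have hRS' : R'.map (Subgroup.centralizer (Q : Set G)).subtype ≤ S := by
    rw [hS]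
    exact le_sup_right
  have hRS : ∀ g : G, g ∈ Subgroup.centralizer (S : Set G) ↔
      ∃ hg : g ∈ Subgroup.centralizer (Q : Set G),
        (⟨g, hg⟩ : Subgroup.centralizer (Q : Set G)) ∈ Subgroup.centralizer (R' : Set _) := by
    intro g
    constructor
    · intro hg
      have hgK : g ∈ Subgroup.centralizer (Q : Set G) := Subgroup.centralizer_le hQS hg
      refine ⟨hgK, ?_⟩
      rw [Subgroup.mem_centralizer_iff] at hg ⊢
      intro r hr
      apply Subtype.ext
      exact hg (r : G) (hRS' ⟨r, hr, rfl⟩)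
    · rintro ⟨hgK, hg⟩
      have hle : S ≤ Subgroup.centralizer ({g} : Set G) := by
        rw [hS]
        apply sup_le
        · intro q hq
          rw [Subgroup.mem_centralizer_iff]
          intro h hh
          rw [Set.mem_singleton_iff] at hh
          rw [hh]
          exact (Subgroup.mem_centralizer_iff.mp hgK q hq).symm
        · rintro _ ⟨r, hr, rfl⟩
          rw [Subgroup.mem_centralizer_iff]
          intro h hh
          rw [Set.mem_singleton_iff] at hh
          rw [hh]
          have h1 := Subgroup.mem_centralizer_iff.mp hg r hr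
          exact (congrArg Subtype.val h1).symm
      rw [Subgroup.mem_centralizer_iff]
      intro s hs
      exact (Subgroup.mem_centralizer_iff.mp (hle hs) g rfl).symm
  have hQp := hQf.1.1
  have hRp : IsPGroup p (R'.map (Subgroup.centralizer (Q : Set G)).subtype) :=
    hpair'.1.1.map _
  have hRN : R'.map (Subgroup.centralizer (Q : Set G)).subtype
      ≤ Subgroup.normalizer (Q : Set G) :=
    hRK.trans (Subgroup.centralizer_le_normalizer _)
  have hSp : IsPGroup p S := by
    rw [hS]
    exact IsPGroup.to_sup_of_normal_left' hQp hRp hRN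
  have hSle : S ≤ Q ⊔ Subgroup.centralizer (Q : Set G) := by
    rw [hS]
    exact sup_le_sup_left hRK Q
  have hn : IsNormalSubpair p M Q f S (trIrr (subIso _ _ _ hRS) '' h') := by
    refine ⟨hQf.1, ⟨hSp, isPBlock_trIrr _ _ hpair'.1.2⟩, hQS, ?_, ?_, ?_⟩
    · exact hSle.trans (sup_le Subgroup.le_normalizer (Subgroup.centralizer_le_normalizer _))
    · intro s hs
      exact stabilizes_of_mem_innerOn _ f s (le_innerOn Q (hSle hs))
    · rintro ξ ⟨ξ', hξ', rfl⟩
      rw [tl_omega _ R' S hRS _ ξ']
      have h1 : res (Subgroup.centralizer (Q : Set G))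
          (subgroupBlockCoeff (Subgroup.centralizer (Q : Set G)) f) = blockCoeff f := by
        funext t
        show subgroupBlockCoeff (Subgroup.centralizer (Q : Set G)) f (t : G) = blockCoeff f t
        rw [subgroupBlockCoeff_eq, ext_coe]
      rw [h1]
      exact hpair'.2.2 ξ' hξ'
  have hpairS := pairOf_of_normal hM B Q S f _ hQf hn
  have key : ∀ y : G, y ∈ Subgroup.centralizer (Q : Set G) →
      (∀ r ∈ R'.map (Subgroup.centralizer (Q : Set G)).subtype,
        y * r * y⁻¹ ∈ R'.map (Subgroup.centralizer (Q : Set G)).subtype) →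
      ∀ s ∈ S, y * s * y⁻¹ ∈ S := by
    intro y hyK hyR s hs
    have hle : Q ⊔ R'.map (Subgroup.centralizer (Q : Set G)).subtype
        ≤ S.comap (MulAut.conj y).toMonoidHom := by
      apply sup_le
      · intro q hq
        show y * q * y⁻¹ ∈ S
        have h1 := Subgroup.mem_centralizer_iff.mp hyK q hq
        rw [← h1, mul_inv_cancel_right]
        exact hQS hq
      · intro r hr
        exact hRS' (hyR r hr)
    rw [hS] at hs
    exact hle hs
  have hxR : ∀ (y : Subgroup.centralizer (Q : Set G)),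
      y ∈ Subgroup.normalizer (R' : Set (Subgroup.centralizer (Q : Set G))) →
      ∀ r ∈ R'.map (Subgroup.centralizer (Q : Set G)).subtype,
        (y : G) * r * (y : G)⁻¹ ∈ R'.map (Subgroup.centralizer (Q : Set G)).subtype := by
    rintro y hy _ ⟨r, hr, rfl⟩
    exact ⟨y * r * y⁻¹, (Subgroup.mem_normalizer_iff.mp hy r).mp hr, rfl⟩
  have hxN' : (x : G) ∈ Subgroup.normalizer (S : Set G) := by
    rw [Subgroup.mem_normalizer_iff]
    intro s
    constructor
    · intro hs
      exact key (x : G) x.2 (hxR x hxN) s hs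
    · intro hs
      have h1 := key ((x⁻¹ : Subgroup.centralizer (Q : Set G)) : G) (x⁻¹).2
        (hxR x⁻¹ (Subgroup.inv_mem _ hxN)) _ hs
      have e1 : ((x⁻¹ : Subgroup.centralizer (Q : Set G)) : G) * ((x : G) * s * (x : G)⁻¹)
          * ((x⁻¹ : Subgroup.centralizer (Q : Set G)) : G)⁻¹ = s := by
        show (x : G)⁻¹ * ((x : G) * s * (x : G)⁻¹) * (x : G)⁻¹⁻¹ = s
        group
      rw [e1] at h1
      exact h1
  have hxst' := tl_stab _ R' S hRS h' x hxst
  have hxreg' : IsPRegular p (x : G) := by
    show ¬ p ∣ orderOf (x : G)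
    rw [Subgroup.orderOf_coe]
    exact hxreg
  exact ((hRS _).mp (hnil.2 S _ hpairS (x : G) hxN' hxst' hxreg')).2

theorem nil_centralizer_defect {p : ℕ} [Fact p.Prime] (hM : IsPModular p M)
    (B : Set (IrrCharacter G)) (P : Subgroup G)
    (e : Set (IrrCharacter (Subgroup.centralizer (P : Set G))))
    (hmax : IsMaximalBrauerPair p M B P e) (hnil : IsNilpotentBlock p M B)
    (Q : Subgroup G) (f : Set (IrrCharacter (Subgroup.centralizer (Q : Set G))))
    (hle : SubpairLE p M Q f P e) :
    IsDefectGroup p M f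
      ((P ⊓ Subgroup.centralizer (Q : Set G)).subgroupOf (Subgroup.centralizer (Q : Set G))) := by
  have hPe := hmax.1.1
  have hcardS : Nat.card ((P ⊓ Subgroup.centralizer (Q : Set G)).subgroupOf
      (Subgroup.centralizer (Q : Set G)))
      = Nat.card (P ⊓ Subgroup.centralizer (Q : Set G) : Subgroup G) :=
    Nat.card_congr (Subgroup.subgroupOfEquivOfLe inf_le_right).toEquiv
  obtain ⟨D, hD, hSD⟩ := exists_defect_ge_of_le hM P Q e f hPe hle
  obtain ⟨u, hu, hcard⟩ := exists_bigger hM B P Q e f hmax hle D hD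
  obtain ⟨s, hsP, hs⟩ := nil_fusion hM B P e hmax hnil (Nat.card P) Q f u
    (Nat.le_add_left _ _) hle hu
  have h1 : Nat.card (P ⊓ Subgroup.centralizer
      ((Q.map (MulAut.conj u).toMonoidHom : Subgroup G) : Set G) : Subgroup G)
      ≤ Nat.card (P ⊓ Subgroup.centralizer (Q : Set G) : Subgroup G) := by
    have hle' : P ⊓ Subgroup.centralizer
        ((Q.map (MulAut.conj u).toMonoidHom : Subgroup G) : Set G)
        ≤ (P ⊓ Subgroup.centralizer (Q : Set G)).map (MulAut.conj s).toMonoidHom := by
      intro z hz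
      obtain ⟨hzP, hzC⟩ := Subgroup.mem_inf.mp hz
      rw [mem_map_conj]
      refine Subgroup.mem_inf.mpr ⟨P.mul_mem (P.mul_mem (P.inv_mem hsP) hzP) hsP, ?_⟩
      rw [Subgroup.mem_centralizer_iff]
      intro q hq
      have h2 : u * q * u⁻¹ ∈ Q.map (MulAut.conj u).toMonoidHom := conj_mem_map_conj Q u q hq
      have h3 := Subgroup.mem_centralizer_iff.mp hzC _ h2
      rw [hs q hq] at h3
      have e1 : q * (s⁻¹ * z * s) = s⁻¹ * (s * q * s⁻¹ * z) * s := by group
      rw [e1, h3]
      group
    calc Nat.card (P ⊓ Subgroup.centralizer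
          ((Q.map (MulAut.conj u).toMonoidHom : Subgroup G) : Set G) : Subgroup G)
        ≤ Nat.card ((P ⊓ Subgroup.centralizer (Q : Set G)).map (MulAut.conj s).toMonoidHom) :=
          Subgroup.card_le_of_le hle'
      _ = Nat.card (P ⊓ Subgroup.centralizer (Q : Set G) : Subgroup G) :=
          Subgroup.card_map_of_injective (MulAut.conj s).injective
  have h7 : Nat.card D ≤ Nat.card ((P ⊓ Subgroup.centralizer (Q : Set G)).subgroupOf
      (Subgroup.centralizer (Q : Set G))) := by
    rw [hcardS]
    exact hcard.trans h1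
  have h8 := Subgroup.eq_of_le_of_card_ge hSD h7
  rw [h8]
  exact hD

end nil3

end Cfsg.Agent.Lib.Helper24.Brauer
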