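import Mathlib
import Cfsg.Agent.Lib.Helper24.PrinQuot
import Cfsg.Agent.Lib.Helper24.Trunc
import Cfsg.Agent.Lib.Helper6.Regular
import Cfsg.Agent.Lib.Helper6.BlockOrth
import Cfsg.Agent.Lib.Helper6.ClassSum
import Cfsg.Agent.S0941

set_option autoImplicit false

namespace Cfsg.Agent.Lib.Helper24.PrinRank

open Cfsg Cfsg.Agent.Lib.Helper1 Cfsg.Agent.Lib.Helper6 Cfsg.Agent.Lib.Helper24
open scoped ComplexConjugate

universe u

variable {G : Type u} [Group G] [Fintype G] {M : Ideal AlgInt}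

noncomputable def Psi (p : ℕ) (Q : Subgroup G) [Q.Normal] : (G ⧸ Q → ℂ) →ₗ[ℂ] (G → ℂ) where
  toFun f := fun g => if p ∣ orderOf g then 0 else f (g : G ⧸ Q)
  map_add' f f' := by
    funext g
    by_cases h : p ∣ orderOf g
    · show (if p ∣ orderOf g then (0 : ℂ) else (f + f') (g : G ⧸ Q))
        = (if p ∣ orderOf g then (0 : ℂ) else f (g : G ⧸ Q))
          + (if p ∣ orderOf g then (0 : ℂ) else f' (g : G ⧸ Q))
      rw [if_pos h, if_pos h, if_pos h, add_zero]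
    · show (if p ∣ orderOf g then (0 : ℂ) else (f + f') (g : G ⧸ Q))
        = (if p ∣ orderOf g then (0 : ℂ) else f (g : G ⧸ Q))
          + (if p ∣ orderOf g then (0 : ℂ) else f' (g : G ⧸ Q))
      rw [if_neg h, if_neg h, if_neg h]
      rfl
  map_smul' c f := by
    funext g
    by_cases h : p ∣ orderOf g
    · show (if p ∣ orderOf g then (0 : ℂ) else (c • f) (g : G ⧸ Q))
        = c * (if p ∣ orderOf g then (0 : ℂ) else f (g : G ⧸ Q))
      rw [if_pos h, if_pos h, mul_zero]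
    · show (if p ∣ orderOf g then (0 : ℂ) else (c • f) (g : G ⧸ Q))
        = c * (if p ∣ orderOf g then (0 : ℂ) else f (g : G ⧸ Q))
      rw [if_neg h, if_neg h]
      rfl

theorem Psi_apply_reg (p : ℕ) (Q : Subgroup G) [Q.Normal] (f : G ⧸ Q → ℂ) {g : G}
    (h : ¬ p ∣ orderOf g) : Psi p Q f g = f (g : G ⧸ Q) := if_neg h

theorem Psi_apply_sing (p : ℕ) (Q : Subgroup G) [Q.Normal] (f : G ⧸ Q → ℂ) {g : G}
    (h : p ∣ orderOf g) : Psi p Q f g = 0 := if_pos h

theorem orderOf_mk_dvd (Q : Subgroup G) [Q.Normal] (g : G) :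
    orderOf (g : G ⧸ Q) ∣ orderOf g := by
  apply orderOf_dvd_of_pow_eq_one
  rw [← QuotientGroup.mk_pow, pow_orderOf_eq_one, QuotientGroup.mk_one]

theorem Psi_pReg (p : ℕ) (Q : Subgroup G) [Q.Normal] (ψ : G ⧸ Q → ℂ) :
    Psi p Q (pRegularPart p ψ) = pRegularPart p (fun g : G => ψ (g : G ⧸ Q)) := by
  funext g
  by_cases h : p ∣ orderOf g
  · rw [Psi_apply_sing _ _ _ h, Trunc.pRegularPart_of_sing _ h]
  · have h' : ¬ p ∣ orderOf (g : G ⧸ Q) := fun h2 => h (dvd_trans h2 (orderOf_mk_dvd Q g))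
    rw [Psi_apply_reg _ _ _ h, Trunc.pRegularPart_of_reg _ h, Trunc.pRegularPart_of_reg _ h']

theorem index_centralizer_pow {p : ℕ} [Fact p.Prime] (Q : Subgroup G) [Q.Normal]
    (hQ : IsPGroup p Q) (hsup : Q ⊔ Subgroup.centralizer (Q : Set G) = ⊤) :
    ∃ k : ℕ, (Subgroup.centralizer (Q : Set G)).index = p ^ k := by
  have hp : p.Prime := Fact.out
  have hCn : (Subgroup.centralizer (Q : Set G)).Normal := Subgroup.normal_centralizer
  have h1 : (Subgroup.centralizer (Q : Set G)).relIndex (Q ⊔ Subgroup.centralizer (Q : Set G))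
      = (Subgroup.centralizer (Q : Set G)).relIndex Q := Subgroup.relIndex_sup_right _ _
  rw [hsup, Subgroup.relIndex_top_right] at h1
  obtain ⟨n, hn⟩ := IsPGroup.iff_card.mp hQ
  have h2 : (Subgroup.centralizer (Q : Set G)).relIndex Q ∣ p ^ n := by
    rw [← hn]
    exact Subgroup.relIndex_dvd_card _ _
  rw [← h1] at h2
  obtain ⟨k, _, hk⟩ := (Nat.dvd_prime_pow hp).mp h2
  exact ⟨k, hk⟩

theorem regular_lift_unique {p : ℕ} [Fact p.Prime] (Q : Subgroup G) [Q.Normal]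
    (hQ : IsPGroup p Q) (hC : ∃ k : ℕ, (Subgroup.centralizer (Q : Set G)).index = p ^ k)
    {g h : G} (hg : ¬ p ∣ orderOf g) (hh : ¬ p ∣ orderOf h)
    (he : (g : G ⧸ Q) = (h : G ⧸ Q)) : g = h := by
  have hp : p.Prime := Fact.out
  have hz : g⁻¹ * h ∈ Q := QuotientGroup.eq.mp he
  have hgc := mem_centralizer_of_regular Q hC g hg
  have hcomm : Commute g (g⁻¹ * h) := (Subgroup.mem_centralizer_iff.mp hgc _ hz).symm
  have hcgh : Commute g h := by
    have h1 := (Commute.refl g).mul_right hcomm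
    rwa [mul_inv_cancel_left] at h1
  obtain ⟨k, hk⟩ := hQ ⟨g⁻¹ * h, hz⟩
  have hk' : (g⁻¹ * h) ^ p ^ k = 1 := congrArg Subtype.val hk
  have hn : (g⁻¹ * h) ^ (orderOf g * orderOf h) = 1 := by
    rw [(hcgh.inv_left).mul_pow, inv_pow, pow_mul, pow_orderOf_eq_one, one_pow, inv_one, one_mul,
      mul_comm, pow_mul, pow_orderOf_eq_one, one_pow]
  have hdvd1 : orderOf (g⁻¹ * h) ∣ p ^ k := orderOf_dvd_of_pow_eq_one hk'
  have hdvd2 : orderOf (g⁻¹ * h) ∣ orderOf g * orderOf h := orderOf_dvd_of_pow_eq_one hn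
  have hcop : Nat.Coprime (p ^ k) (orderOf g * orderOf h) :=
    Nat.Coprime.pow_left k (Nat.Coprime.mul_right ((Nat.Prime.coprime_iff_not_dvd hp).mpr hg)
      ((Nat.Prime.coprime_iff_not_dvd hp).mpr hh))
  have h1 : orderOf (g⁻¹ * h) = 1 := Nat.eq_one_of_dvd_coprimes hcop hdvd1 hdvd2
  rw [orderOf_eq_one_iff] at h1
  exact inv_mul_eq_one.mp h1

theorem regular_conj_of_quot {p : ℕ} [Fact p.Prime] (Q : Subgroup G) [Q.Normal]
    (hQ : IsPGroup p Q) (hC : ∃ k : ℕ, (Subgroup.centralizer (Q : Set G)).index = p ^ k)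
    {g h : G} (hg : ¬ p ∣ orderOf g) (hh : ¬ p ∣ orderOf h)
    (hc : IsConj (g : G ⧸ Q) (h : G ⧸ Q)) : IsConj g h := by
  obtain ⟨c, hc'⟩ := isConj_iff.mp hc
  obtain ⟨c₀, rfl⟩ := QuotientGroup.mk_surjective c
  have h1 : ((c₀ * g * c₀⁻¹ : G) : G ⧸ Q) = (h : G ⧸ Q) := by
    rw [QuotientGroup.mk_mul, QuotientGroup.mk_mul, QuotientGroup.mk_inv]
    exact hc'
  have h2 : ¬ p ∣ orderOf (c₀ * g * c₀⁻¹) := by
    rw [Subsec.orderOf_conj']
    exact hg
  have h3 := regular_lift_unique Q hQ hC h2 hh h1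
  exact isConj_iff.mpr ⟨c₀, h3⟩

theorem exists_descent {p : ℕ} [Fact p.Prime] (hM : IsPModular p M) (Q : Subgroup G) [Q.Normal]
    (hQ : IsPGroup p Q) (hC : ∃ k : ℕ, (Subgroup.centralizer (Q : Set G)).index = p ^ k)
    (χ : IrrCharacter G) (hχ : χ ∈ principalBlock M G) :
    pRegularPart p (χ : G → ℂ) ∈ (Submodule.span ℂ
      ((fun ψ : IrrCharacter (G ⧸ Q) => pRegularPart p (ψ : G ⧸ Q → ℂ)) ''
        principalBlock M (G ⧸ Q))).map (Psi p Q) := by
  classical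
  have hfinQ : Fintype (G ⧸ Q) := Fintype.ofFinite _
  have hfinIrr : Fintype (IrrCharacter (G ⧸ Q)) := irrFintype
  obtain ⟨c, hc⟩ : ∃ c : IrrCharacter (G ⧸ Q) → ℂ, c = fun ψ : IrrCharacter (G ⧸ Q) =>
      (Nat.card (G ⧸ Q) : ℂ)⁻¹ * ∑ h ∈ Finset.univ.filter (fun h : G => ¬ p ∣ orderOf h),
        (χ : G → ℂ) h * conj ((ψ : G ⧸ Q → ℂ) (h : G ⧸ Q)) := ⟨_, rfl⟩
  have hc0 : ∀ ψ : IrrCharacter (G ⧸ Q), ψ ∉ principalBlock M (G ⧸ Q) → c ψ = 0 := by
    intro ψ hψ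
    rw [hc]
    have h1 : ¬ SameBlock M (χ : G → ℂ) (PrinQuot.infl Q ψ : G → ℂ) := by
      intro h2
      apply hψ
      have h3 : SameBlock M (fun _ : G => (1 : ℂ)) (PrinQuot.infl Q ψ : G → ℂ) :=
        sameBlock_trans hM.2.1 hχ h2
      exact ((Cfsg.Agent.S0941.result p M hM Q hQ hC).1 (PrinQuot.triv (G ⧸ Q)) ψ).mpr h3
    have h4 := sum_regular_mul_conj_eq_zero hM χ (PrinQuot.infl Q ψ) h1
    show (Nat.card (G ⧸ Q) : ℂ)⁻¹ * ∑ h ∈ Finset.univ.filter (fun h : G => ¬ p ∣ orderOf h),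
        (χ : G → ℂ) h * conj ((ψ : G ⧸ Q → ℂ) (h : G ⧸ Q)) = 0
    have h5 : ∑ h ∈ Finset.univ.filter (fun h : G => ¬ p ∣ orderOf h),
        (χ : G → ℂ) h * conj ((ψ : G ⧸ Q → ℂ) (h : G ⧸ Q)) = 0 := by
      convert h4 using 2
      rfl
    rw [h5, mul_zero]
  refine ⟨∑ ψ ∈ Finset.univ.filter (fun ψ : IrrCharacter (G ⧸ Q) =>
      ψ ∈ principalBlock M (G ⧸ Q)), c ψ • pRegularPart p (ψ : G ⧸ Q → ℂ), ?_, ?_⟩
  · apply Submodule.sum_mem
    intro ψ hψ
    apply Submodule.smul_mem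
    apply Submodule.subset_span
    exact ⟨ψ, (Finset.mem_filter.mp hψ).2, rfl⟩
  · funext g
    by_cases hg : p ∣ orderOf g
    · rw [Psi_apply_sing _ _ _ hg, Trunc.pRegularPart_of_sing _ hg]
    · rw [Psi_apply_reg _ _ _ hg, Trunc.pRegularPart_of_reg _ hg]
      have hg' : ¬ p ∣ orderOf (g : G ⧸ Q) := fun h2 => hg (dvd_trans h2 (orderOf_mk_dvd Q g))
      rw [Finset.sum_apply]
      have h1 : ∀ ψ : IrrCharacter (G ⧸ Q),
          (c ψ • pRegularPart p (ψ : G ⧸ Q → ℂ)) (g : G ⧸ Q)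
            = c ψ * (ψ : G ⧸ Q → ℂ) (g : G ⧸ Q) := by
        intro ψ
        rw [Pi.smul_apply, smul_eq_mul, Trunc.pRegularPart_of_reg _ hg']
      rw [Finset.sum_congr rfl (fun ψ _ => h1 ψ), Finset.sum_filter]
      have h2 : ∑ ψ : IrrCharacter (G ⧸ Q), (if ψ ∈ principalBlock M (G ⧸ Q) then
          c ψ * (ψ : G ⧸ Q → ℂ) (g : G ⧸ Q) else 0)
          = ∑ ψ : IrrCharacter (G ⧸ Q), c ψ * (ψ : G ⧸ Q → ℂ) (g : G ⧸ Q) := by
        apply Finset.sum_congr rfl
        intro ψ _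
        by_cases hψ : ψ ∈ principalBlock M (G ⧸ Q)
        · rw [if_pos hψ]
        · rw [if_neg hψ, hc0 ψ hψ, zero_mul]
      rw [h2, hc]
      have h3 : ∀ ψ : IrrCharacter (G ⧸ Q),
          ((Nat.card (G ⧸ Q) : ℂ)⁻¹ * ∑ h ∈ Finset.univ.filter (fun h : G => ¬ p ∣ orderOf h),
            (χ : G → ℂ) h * conj ((ψ : G ⧸ Q → ℂ) (h : G ⧸ Q))) * (ψ : G ⧸ Q → ℂ) (g : G ⧸ Q)
          = (Nat.card (G ⧸ Q) : ℂ)⁻¹ * ∑ h ∈ Finset.univ.filter (fun h : G => ¬ p ∣ orderOf h),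
            (χ : G → ℂ) h * ((ψ : G ⧸ Q → ℂ) (g : G ⧸ Q)
              * conj ((ψ : G ⧸ Q → ℂ) (h : G ⧸ Q))) := by
        intro ψ
        rw [mul_assoc, Finset.sum_mul]
        congr 1
        apply Finset.sum_congr rfl
        intro h _
        ring
      rw [Finset.sum_congr rfl (fun ψ _ => h3 ψ), ← Finset.mul_sum, Finset.sum_comm]
      have h4 : ∀ h ∈ Finset.univ.filter (fun h : G => ¬ p ∣ orderOf h),
          ∑ ψ : IrrCharacter (G ⧸ Q), (χ : G → ℂ) h * ((ψ : G ⧸ Q → ℂ) (g : G ⧸ Q)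
              * conj ((ψ : G ⧸ Q → ℂ) (h : G ⧸ Q)))
          = if IsConj h g then
              (Nat.card (Subgroup.centralizer ({(g : G ⧸ Q)} : Set (G ⧸ Q))) : ℂ)
                * (χ : G → ℂ) h else 0 := by
        intro h hh
        rw [← Finset.mul_sum, col_orth (g : G ⧸ Q) (h : G ⧸ Q)]
        have hhreg : ¬ p ∣ orderOf h := (Finset.mem_filter.mp hh).2
        by_cases hcj : IsConj h g
        · have h5 : IsConj (g : G ⧸ Q) (h : G ⧸ Q) :=
            ((QuotientGroup.mk' Q).map_isConj hcj).symm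
          rw [if_pos h5, if_pos hcj, mul_comm]
        · have h5 : ¬ IsConj (g : G ⧸ Q) (h : G ⧸ Q) :=
            fun h6 => hcj (regular_conj_of_quot Q hQ hC hg hhreg h6).symm
          rw [if_neg h5, if_neg hcj, mul_zero]
      rw [Finset.sum_congr rfl h4, Finset.sum_filter]
      have h5 : ∑ h : G, (if ¬ p ∣ orderOf h then (if IsConj h g then
            (Nat.card (Subgroup.centralizer ({(g : G ⧸ Q)} : Set (G ⧸ Q))) : ℂ)
              * (χ : G → ℂ) h else 0) else 0)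
          = ∑ h ∈ Finset.univ.filter (fun h : G => IsConj h g),
            (Nat.card (Subgroup.centralizer ({(g : G ⧸ Q)} : Set (G ⧸ Q))) : ℂ)
              * (χ : G → ℂ) h := by
        rw [Finset.sum_filter]
        apply Finset.sum_congr rfl
        intro h _
        by_cases hcj : IsConj h g
        · have hreg : ¬ p ∣ orderOf h := by
            obtain ⟨c', hc'⟩ := isConj_iff.mp hcj.symm
            rw [← hc', Subsec.orderOf_conj']
            exact hg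
          rw [if_pos hreg]
        · rw [if_neg hcj, ite_self]
      rw [h5, ← Finset.mul_sum, sum_class_eq (χ : G → ℂ) (irr_isClassFunction χ) g,
        index_centralizer_eq_of_regular Q hQ g hg (mem_centralizer_of_regular Q hC g hg)]
      have h6 : (Nat.card (Subgroup.centralizer ({(g : G ⧸ Q)} : Set (G ⧸ Q))) : ℂ)
          * ((Subgroup.centralizer ({(g : G ⧸ Q)} : Set (G ⧸ Q))).index : ℂ)
          = (Nat.card (G ⧸ Q) : ℂ) := by
        rw [← Nat.cast_mul, Subgroup.card_mul_index]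
      have h7 : (Nat.card (G ⧸ Q) : ℂ) ≠ 0 := Nat.cast_ne_zero.mpr Nat.card_pos.ne'
      rw [← mul_assoc (Nat.card (Subgroup.centralizer ({(g : G ⧸ Q)} : Set (G ⧸ Q))) : ℂ),
        h6, ← mul_assoc, inv_mul_cancel₀ h7, one_mul]

theorem blockRank_principal_quot {p : ℕ} [Fact p.Prime] (hM : IsPModular p M) (Q : Subgroup G)
    [Q.Normal] (hQ : IsPGroup p Q) (hsup : Q ⊔ Subgroup.centralizer (Q : Set G) = ⊤) :
    blockRank p (principalBlock M G) = blockRank p (principalBlock M (G ⧸ Q)) := by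
  classical
  have hC := index_centralizer_pow Q hQ hsup
  obtain ⟨V', hV'⟩ : ∃ V' : Submodule ℂ (G ⧸ Q → ℂ), V' = Submodule.span ℂ
      ((fun ψ : IrrCharacter (G ⧸ Q) => pRegularPart p (ψ : G ⧸ Q → ℂ)) ''
        principalBlock M (G ⧸ Q)) := ⟨_, rfl⟩
  have hmap : V'.map (Psi p Q) = Submodule.span ℂ
      ((fun χ : IrrCharacter G => pRegularPart p (χ : G → ℂ)) '' principalBlock M G) := by
    apply le_antisymm
    · rw [hV', Submodule.map_span, Submodule.span_le]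
      rintro _ ⟨_, ⟨ψ, hψ, rfl⟩, rfl⟩
      apply Submodule.subset_span
      refine ⟨PrinQuot.infl Q ψ, PrinQuot.infl_mem hM.2.1 Q ψ hψ, ?_⟩
      exact (Psi_pReg p Q (ψ : G ⧸ Q → ℂ)).symm
    · rw [Submodule.span_le]
      rintro _ ⟨χ, hχ, rfl⟩
      rw [hV']
      exact exists_descent hM Q hQ hC χ hχ
  have hsupp : ∀ f ∈ V', ∀ q : G ⧸ Q, p ∣ orderOf q → f q = 0 := by
    intro f hf
    rw [hV'] at hf
    induction hf using Submodule.span_induction with
    | mem x hx =>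
      obtain ⟨ψ, _, rfl⟩ := hx
      intro q hq
      exact Trunc.pRegularPart_of_sing _ hq
    | zero =>
      intro q _
      rfl
    | add x y _ _ hx hy =>
      intro q hq
      rw [Pi.add_apply, hx q hq, hy q hq, add_zero]
    | smul a x _ hx =>
      intro q hq
      rw [Pi.smul_apply, hx q hq, smul_zero]
  have hinj : Function.Injective ((Psi p Q).domRestrict V') := by
    rw [← LinearMap.ker_eq_bot, LinearMap.ker_eq_bot']
    rintro ⟨f, hf⟩ h0
    apply Subtype.ext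
    show f = 0
    funext q
    by_cases hq : p ∣ orderOf q
    · exact hsupp f hf q hq
    · obtain ⟨g, rfl, hg⟩ := exists_regular_lift Q q hq
      have h1 : Psi p Q f g = 0 := congrFun h0 g
      rw [Psi_apply_reg _ _ _ hg] at h1
      exact h1
  have h1 := LinearMap.finrank_range_of_inj hinj
  rw [LinearMap.range_domRestrict, hmap, hV'] at h1
  exact h1

end Cfsg.Agent.Lib.Helper24.PrinRank
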