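import Mathlib
import Cfsg.Agent.Lib.Helper24.PrinRank
import Cfsg.Agent.Lib.Helper24.CentralDef2
import Cfsg.Agent.Lib.Helper24.SecondMain
import Cfsg.Agent.Lib.Helper24.Brauer19
import Cfsg.Agent.Lib.Helper25.MaxPair
import Cfsg.Agent.Lib.Helper6.Covering2
import Cfsg.Agent.Lib.Helper1.CharSchur
import Cfsg.Agent.Lib.Helper1.CharComplete
import Cfsg.Agent.S0941

set_option autoImplicit false

namespace Cfsg.Agent.Lib.Helper24.CentProd

open Cfsg Cfsg.Agent.Lib.Helper1 Cfsg.Agent.Lib.Helper6 Cfsg.Agent.Lib.Helper24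
open scoped ComplexConjugate

universe u

variable {G : Type u} [Group G] [Fintype G] {M : Ideal AlgInt}

def piHom (P : Subgroup G) : P × Subgroup.centralizer (P : Set G) →* G :=
  MonoidHom.noncommCoprod P.subtype (Subgroup.centralizer (P : Set G)).subtype
    (fun y c => Subgroup.mem_centralizer_iff.mp c.2 y y.2)

theorem piHom_apply (P : Subgroup G) (x : P × Subgroup.centralizer (P : Set G)) :
    piHom P x = (x.1 : G) * (x.2 : G) := rfl

theorem exists_mul (P : Subgroup G) (hsup : P ⊔ Subgroup.centralizer (P : Set G) = ⊤) (g : G) :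
    ∃ (y : P) (c : Subgroup.centralizer (P : Set G)), g = (y : G) * (c : G) := by
  have hg : g ∈ P ⊔ Subgroup.centralizer (P : Set G) := by
    rw [hsup]
    exact Subgroup.mem_top g
  obtain ⟨h, hh, k, hk, rfl⟩ := Cfsg.Agent.Lib.Helper25.MaxPair.exists_of_mem_sup P _
    (Cfsg.Agent.Lib.Helper25.MaxPair.comm_centralizer P) hg
  exact ⟨⟨h, hh⟩, ⟨k, hk⟩, rfl⟩

theorem piHom_surjective (P : Subgroup G) (hsup : P ⊔ Subgroup.centralizer (P : Set G) = ⊤) :
    Function.Surjective (piHom P) := by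
  intro g
  obtain ⟨y, c, rfl⟩ := exists_mul P hsup g
  exact ⟨(y, c), rfl⟩

theorem normal_of_sup (P : Subgroup G) (hsup : P ⊔ Subgroup.centralizer (P : Set G) = ⊤) :
    P.Normal := by
  rw [← Subgroup.normalizer_eq_top_iff]
  apply top_le_iff.mp
  rw [← hsup]
  exact sup_le Subgroup.le_normalizer (Subgroup.centralizer_le_normalizer _)

theorem exists_decomp (P : Subgroup G) (hsup : P ⊔ Subgroup.centralizer (P : Set G) = ⊤)
    (χ : IrrCharacter G) :
    ∃ (ζ : IrrCharacter P) (ψ : IrrCharacter (Subgroup.centralizer (P : Set G))),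
      ∀ (y : P) (c : Subgroup.centralizer (P : Set G)),
        (χ : G → ℂ) ((y : G) * (c : G)) = ζ.1 y * ψ.1 c := by
  classical
  have h1 := CharQuot.irr_inflate (piHom P) (piHom_surjective P hsup) χ.2
  rw [isIrrCharacter_prod_iff] at h1
  obtain ⟨φ, ψ, hφ, hψ, h⟩ := h1
  refine ⟨⟨φ, hφ⟩, ⟨ψ, hψ⟩, ?_⟩
  intro y c
  exact congrFun h (y, c)

theorem exists_of_compat (P : Subgroup G) (hsup : P ⊔ Subgroup.centralizer (P : Set G) = ⊤)
    (ζ : IrrCharacter P) (ψ : IrrCharacter (Subgroup.centralizer (P : Set G)))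
    (hc : ∀ (y : P) (c : Subgroup.centralizer (P : Set G)), (y : G) * (c : G) = 1 →
      ζ.1 y * ψ.1 c = ζ.1 1 * ψ.1 1) :
    ∃ χ : IrrCharacter G, ∀ (y : P) (c : Subgroup.centralizer (P : Set G)),
        (χ : G → ℂ) ((y : G) * (c : G)) = ζ.1 y * ψ.1 c := by
  classical
  have h1 := isIrrCharacter_prod ζ.2 ψ.2
  have hker : ∀ x ∈ (piHom P).ker,
      (fun x : P × Subgroup.centralizer (P : Set G) => ζ.1 x.1 * ψ.1 x.2) x
        = (fun x : P × Subgroup.centralizer (P : Set G) => ζ.1 x.1 * ψ.1 x.2) 1 := by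
    intro x hx
    exact hc x.1 x.2 (MonoidHom.mem_ker.mp hx)
  obtain ⟨ψ', hψ', hval⟩ := CharQuot.irr_quotient (piHom P).ker h1 hker
  obtain ⟨e, he⟩ : ∃ e : (P × Subgroup.centralizer (P : Set G)) ⧸ (piHom P).ker ≃* G,
      e = QuotientGroup.quotientKerEquivOfSurjective (piHom P) (piHom_surjective P hsup) :=
    ⟨_, rfl⟩
  have h2 := CharQuot.irr_inflate e.symm.toMonoidHom e.symm.surjective hψ'
  refine ⟨⟨_, h2⟩, ?_⟩
  intro y c
  have h3 : e.symm ((y : G) * (c : G))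
      = ((y, c) : P × Subgroup.centralizer (P : Set G)) := by
    rw [MulEquiv.symm_apply_eq, he]
    rfl
  show ψ' (e.symm ((y : G) * (c : G))) = _
  rw [h3, hval]


theorem index_val_le {p : ℕ} [Fact p.Prime] (hM : IsPModular p M) (P : Subgroup G)
    (B : Set (IrrCharacter G)) (hB : IsPBlock M B) (hD : IsDefectGroup p M B P)
    (θ : IrrCharacter G) (hθ : θ ∈ B) :
    P.index.factorization p ≤ (charDegree θ.1).factorization p := by
  have hp : p.Prime := Fact.out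
  have h1 := DefectGroup.card_defectGroup hM B hB P hD
  have h2 : Nat.card P * P.index = Nat.card G := Subgroup.card_mul_index P
  have h3 : (Nat.card G).factorization p
      = (Nat.card P).factorization p + P.index.factorization p := by
    rw [← h2, Nat.factorization_mul Nat.card_pos.ne' Subgroup.index_ne_zero_of_finite]
    rfl
  have h4 : (Nat.card P).factorization p = blockDefect p B := by
    rw [h1, Nat.Prime.factorization_pow hp, Finsupp.single_eq_same]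
  have h5 : sInf ((fun χ : IrrCharacter G => (charDegree (χ : G → ℂ)).factorization p) '' B)
      ≤ (charDegree θ.1).factorization p := Nat.sInf_le ⟨θ, hθ, rfl⟩
  have h6 : blockDefect p B = (Nat.card G).factorization p
      - sInf ((fun χ : IrrCharacter G => (charDegree (χ : G → ℂ)).factorization p) '' B) := rfl
  have h7 : (charDegree θ.1).factorization p ≤ (Nat.card G).factorization p :=
    (Nat.factorization_le_iff_dvd (Defect.charDegree_dvd_card θ).2.ne' Nat.card_pos.ne').mpr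
      (Defect.charDegree_dvd_card θ).1 p
  omega

theorem index_val_eq {p : ℕ} [Fact p.Prime] (hM : IsPModular p M) (P : Subgroup G) [P.Normal]
    (B : Set (IrrCharacter G)) (hB : IsPBlock M B) (hD : IsDefectGroup p M B P)
    (θ : IrrCharacter G) (hθ : θ ∈ B) (hker : ∀ x ∈ P, θ.1 x = θ.1 1) :
    (charDegree θ.1).factorization p = P.index.factorization p := by
  apply le_antisymm _ (index_val_le hM P B hB hD θ hθ)
  obtain ⟨n, hn1, hn2, hn3⟩ := CharQuot.degree_dvd_index P θ.2 hker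
  have h1 : charDegree θ.1 = n := by
    show ⌊(θ.1 1).re⌋₊ = n
    rw [hn1]
    simp
  rw [h1]
  exact (Nat.factorization_le_iff_dvd hn3.ne' Subgroup.index_ne_zero_of_finite).mpr hn2 p

theorem canonical_unique {p : ℕ} [Fact p.Prime] (hM : IsPModular p M) (P : Subgroup G)
    [P.Normal] (hP : IsPGroup p P)
    (hC : ∃ k : ℕ, (Subgroup.centralizer (P : Set G)).index = p ^ k)
    (B : Set (IrrCharacter G)) (hB : IsPBlock M B) (hD : IsDefectGroup p M B P)
    (θ₁ θ₂ : IrrCharacter G) (h₁ : θ₁ ∈ B) (h₂ : θ₂ ∈ B)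
    (hk₁ : ∀ x ∈ P, θ₁.1 x = θ₁.1 1) (hk₂ : ∀ x ∈ P, θ₂.1 x = θ₂.1 1) : θ₁ = θ₂ := by
  classical
  have hmax := hM.2.1
  obtain ⟨ψ₁, hψ₁, hv₁⟩ := CharQuot.irr_quotient P θ₁.2 hk₁
  obtain ⟨ψ₂, hψ₂, hv₂⟩ := CharQuot.irr_quotient P θ₂.2 hk₂
  have hsb : SameBlock M θ₁.1 θ₂.1 := by
    rw [Defect.block_eq_blockOf hmax B hB h₁] at h₂
    exact h₂
  have e₁ : θ₁.1 = ψ₁ ∘ QuotientGroup.mk := by
    funext g
    exact (hv₁ g).symm
  have e₂ : θ₂.1 = ψ₂ ∘ QuotientGroup.mk := by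
    funext g
    exact (hv₂ g).symm
  rw [e₁, e₂] at hsb
  have hq := ((Cfsg.Agent.S0941.result p M hM P hP hC).1 ⟨ψ₁, hψ₁⟩ ⟨ψ₂, hψ₂⟩).mpr hsb
  have hdeg : (Nat.card (G ⧸ P)).factorization p ≤ (charDegree ψ₁).factorization p := by
    have h3 : charDegree ψ₁ = charDegree θ₁.1 := by
      show ⌊(ψ₁ 1).re⌋₊ = ⌊(θ₁.1 1).re⌋₊
      rw [← hv₁ 1]
      rfl
    rw [h3, index_val_eq hM P B hB hD θ₁ h₁ hk₁]
    exact le_of_eq rfl
  have hs := Cfsg.Agent.Lib.Helper25.MaxPair.blockOf_eq_singleton hM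
    (⟨ψ₁, hψ₁⟩ : IrrCharacter (G ⧸ P)) hdeg
  have h4 : (⟨ψ₂, hψ₂⟩ : IrrCharacter (G ⧸ P)) ∈ blockOf M ψ₁ := hq
  rw [hs] at h4
  have h5 : ψ₂ = ψ₁ := congrArg Subtype.val (Set.mem_singleton_iff.mp h4)
  apply Subtype.ext
  rw [e₁, e₂, h5]

theorem exists_res (P : Subgroup G) [P.Normal]
    (hsup : P ⊔ Subgroup.centralizer (P : Set G) = ⊤)
    (θ : IrrCharacter G) (hker : ∀ x ∈ P, θ.1 x = θ.1 1) :
    ∃ ψ₀ : IrrCharacter (Subgroup.centralizer (P : Set G)),
      ∀ (y : P) (c : Subgroup.centralizer (P : Set G)), θ.1 ((y : G) * (c : G)) = ψ₀.1 c := by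
  obtain ⟨ψ, hψ, hv⟩ := CharQuot.irr_quotient P θ.2 hker
  have hsurj : Function.Surjective
      ((QuotientGroup.mk' P).comp (Subgroup.centralizer (P : Set G)).subtype) := by
    intro x
    obtain ⟨g, rfl⟩ := QuotientGroup.mk_surjective x
    obtain ⟨y, c, rfl⟩ := exists_mul P hsup g
    refine ⟨c, ?_⟩
    show ((c : G) : G ⧸ P) = (((y : G) * (c : G) : G) : G ⧸ P)
    rw [QuotientGroup.mk_mul, (QuotientGroup.eq_one_iff (y : G)).mpr y.2, one_mul]
  have h1 := CharQuot.irr_inflate _ hsurj hψ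
  refine ⟨⟨_, h1⟩, ?_⟩
  intro y c
  show θ.1 ((y : G) * (c : G)) = ψ (((c : G)) : G ⧸ P)
  rw [← hv, QuotientGroup.mk_mul, (QuotientGroup.eq_one_iff (y : G)).mpr y.2, one_mul]

theorem subgroupOf_le_center (P : Subgroup G) :
    P.subgroupOf (Subgroup.centralizer (P : Set G))
      ≤ Subgroup.center (Subgroup.centralizer (P : Set G)) := by
  intro z hz
  rw [Subgroup.mem_center_iff]
  intro c
  apply Subtype.ext
  exact (Subgroup.mem_centralizer_iff.mp c.2 (z : G) (Subgroup.mem_subgroupOf.mp hz)).symm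

theorem index_subgroupOf (P : Subgroup G) [P.Normal]
    (hsup : P ⊔ Subgroup.centralizer (P : Set G) = ⊤) :
    (P.subgroupOf (Subgroup.centralizer (P : Set G))).index = P.index := by
  have h := Subgroup.relIndex_sup_left (Subgroup.centralizer (P : Set G)) P
  rw [hsup, Subgroup.relIndex_top_right] at h
  exact h.symm

theorem res_block {p : ℕ} [Fact p.Prime] (hM : IsPModular p M) (P : Subgroup G) [P.Normal]
    (hP : IsPGroup p P) (hsup : P ⊔ Subgroup.centralizer (P : Set G) = ⊤)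
    (B : Set (IrrCharacter G)) (hB : IsPBlock M B) (hD : IsDefectGroup p M B P)
    (θ : IrrCharacter G) (hθ : θ ∈ B) (hker : ∀ x ∈ P, θ.1 x = θ.1 1)
    (ψ₀ : IrrCharacter (Subgroup.centralizer (P : Set G)))
    (hψ₀ : ∀ (y : P) (c : Subgroup.centralizer (P : Set G)),
      θ.1 ((y : G) * (c : G)) = ψ₀.1 c) :
    IsDefectGroup p M (blockOf M ψ₀.1) (P.subgroupOf (Subgroup.centralizer (P : Set G))) := by
  classical
  have hdeg : (charDegree ψ₀.1).factorization p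
      = (P.subgroupOf (Subgroup.centralizer (P : Set G))).index.factorization p := by
    rw [index_subgroupOf P hsup, ← index_val_eq hM P B hB hD θ hθ hker]
    have h1 : charDegree ψ₀.1 = charDegree θ.1 := by
      show ⌊(ψ₀.1 1).re⌋₊ = ⌊(θ.1 1).re⌋₊
      have h2 := hψ₀ 1 1
      rw [Subgroup.coe_one, Subgroup.coe_one, one_mul] at h2
      rw [h2]
    rw [h1]
  exact (CentralDef.laradji hM _ (hP.comap_subtype) (subgroupOf_le_center P) ψ₀ hdeg).1


theorem mem_iff {p : ℕ} [Fact p.Prime] (hM : IsPModular p M) (P : Subgroup G) [P.Normal]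
    (hP : IsPGroup p P) (hsup : P ⊔ Subgroup.centralizer (P : Set G) = ⊤)
    (B : Set (IrrCharacter G)) (hB : IsPBlock M B)
    (θ : IrrCharacter G) (hθ : θ ∈ B)
    (ψ₀ : IrrCharacter (Subgroup.centralizer (P : Set G)))
    (hψ₀ : ∀ (y : P) (c : Subgroup.centralizer (P : Set G)),
      θ.1 ((y : G) * (c : G)) = ψ₀.1 c)
    (χ : IrrCharacter G) (ζ : IrrCharacter P)
    (ψ : IrrCharacter (Subgroup.centralizer (P : Set G)))
    (hχ : ∀ (y : P) (c : Subgroup.centralizer (P : Set G)),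
      χ.1 ((y : G) * (c : G)) = ζ.1 y * ψ.1 c) :
    χ ∈ B ↔ ψ ∈ blockOf M ψ₀.1 := by
  classical
  have hmax := hM.2.1
  have hC := PrinRank.index_centralizer_pow P hP hsup
  have hoverθ : classInner (fun n : Subgroup.centralizer (P : Set G) => θ.1 n) ψ₀.1 ≠ 0 := by
    have h1 : (fun n : Subgroup.centralizer (P : Set G) => θ.1 n) = ψ₀.1 := by
      funext n
      have h2 := hψ₀ 1 n
      rw [Subgroup.coe_one, one_mul] at h2
      exact h2
    rw [h1, classInner_irr_self ψ₀.2]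
    exact one_ne_zero
  have hoverχ : classInner (fun n : Subgroup.centralizer (P : Set G) => χ.1 n) ψ.1 ≠ 0 := by
    have h1 : (fun n : Subgroup.centralizer (P : Set G) => χ.1 n) = (ζ.1 1) • ψ.1 := by
      funext n
      have h2 := hχ 1 n
      rw [Subgroup.coe_one, one_mul] at h2
      exact h2
    rw [h1, classInner_smul_left, classInner_irr_self ψ.2, mul_one]
    exact CharBasic.irr_one_ne_zero ζ.2
  have he : IsPBlock M (blockOf M ψ₀.1) := ⟨ψ₀, rfl⟩
  constructor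
  · intro hχB
    have hcong : ∀ n : G, n ∈ Subgroup.centralizer (P : Set G) → MemLocalIdeal M
        (inducedCentralChar (Subgroup.centralizer (P : Set G)) ψ.1 n
          - inducedCentralChar (Subgroup.centralizer (P : Set G)) ψ₀.1 n) := by
      intro n hn
      rw [← centralChar_eq_inducedCentralChar_of_over _ χ ψ hoverχ n hn]
      exact covering_congr hmax _ B hB _ he θ hθ ψ₀ (mem_blockOf_self hmax ψ₀) hoverθ χ hχB ψ₀
        (mem_blockOf_self hmax ψ₀) n hn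
    obtain ⟨g, θ', hθ', heq⟩ := exists_conj_mem_block hmax _ _ he ψ₀
      (mem_blockOf_self hmax ψ₀) ψ hcong
    have h3 : θ' = ψ := by
      apply Subtype.ext
      rw [heq]
      funext n
      obtain ⟨y, c, rfl⟩ := exists_mul P hsup g
      have h4 : (⟨(y : G) * (c : G) * (n : G) * ((y : G) * (c : G))⁻¹,
          (inferInstance : (Subgroup.centralizer (P : Set G)).Normal).conj_mem n n.2 _⟩ :
            Subgroup.centralizer (P : Set G)) = c * n * c⁻¹ := by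
        apply Subtype.ext
        show (y : G) * (c : G) * (n : G) * ((y : G) * (c : G))⁻¹ = (c : G) * (n : G) * (c : G)⁻¹
        have h1 : (y : G) * ((c * n * c⁻¹ : Subgroup.centralizer (P : Set G)) : G)
            = ((c * n * c⁻¹ : Subgroup.centralizer (P : Set G)) : G) * (y : G) :=
          Subgroup.mem_centralizer_iff.mp (c * n * c⁻¹).2 y y.2
        have h2 : ((c * n * c⁻¹ : Subgroup.centralizer (P : Set G)) : G)
            = (c : G) * (n : G) * (c : G)⁻¹ := rfl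
        rw [h2] at h1
        calc (y : G) * (c : G) * (n : G) * ((y : G) * (c : G))⁻¹
            = ((y : G) * ((c : G) * (n : G) * (c : G)⁻¹)) * (y : G)⁻¹ := by group
          _ = (((c : G) * (n : G) * (c : G)⁻¹) * (y : G)) * (y : G)⁻¹ := by rw [h1]
          _ = (c : G) * (n : G) * (c : G)⁻¹ := by group
      show ψ.1 ⟨(y : G) * (c : G) * (n : G) * ((y : G) * (c : G))⁻¹, _⟩ = ψ.1 n
      rw [h4]
      exact irr_isClassFunction ψ n c
    rw [← h3]
    exact hθ'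
  · intro hψ
    have hsb : SameBlock M θ.1 χ.1 := by
      apply sameBlock_of_regular hM θ χ
      intro g hg
      have hgC := mem_centralizer_of_regular P hC g hg
      rw [centralChar_eq_inducedCentralChar_of_over _ θ ψ₀ hoverθ g hgC,
        centralChar_eq_inducedCentralChar_of_over _ χ ψ hoverχ g hgC]
      exact inducedCentralChar_sub_mem_of_sameBlock hmax _ ψ₀ ψ hψ g
    rw [Defect.block_eq_blockOf hmax B hB hθ]
    exact hsb

theorem exists_lam_eq {K : Type u} [Group K] [Fintype K] {p : ℕ} [Fact p.Prime]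
    (hM : IsPModular p M) (e : Set (IrrCharacter K)) (he : IsPBlock M e) (Z : Subgroup K)
    (hZ : IsDefectGroup p M e Z) (hZc : Z ≤ Subgroup.center K) (μ : K → ℂ) (hμ1 : μ 1 = 1)
    (hμmul : ∀ z ∈ Z, ∀ w ∈ Z, μ (z * w) = μ z * μ w) :
    ∃ ψ ∈ e, ∀ z ∈ Z, CentralDef.lam ψ.1 z = μ z := by
  classical
  have hmax := hM.2.1
  have hp : p.Prime := Fact.out
  obtain ⟨ψ₁, hψ₁⟩ := Defect.block_nonempty hmax e he
  have hs : ¬ p ∣ orderOf (1 : K) := by
    rw [orderOf_one]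
    exact hp.not_dvd_one
  have h1 := CentralDef.coeff_formula hM e he Z hZ hZc μ hμ1 1 hs
  have h2 := CentralDef.coeff_eq hM e he Z hZ hZc ψ₁ hψ₁ 1 hs
  have h3 : blockCoeff e 1 ≠ 0 := by
    rw [h2]
    have hd := CharBasic.irr_one_ne_zero ψ₁.2
    have hcard : (Nat.card K : ℂ) ≠ 0 := Nat.cast_ne_zero.mpr Nat.card_pos.ne'
    have hcardZ : (Nat.card Z : ℂ) ≠ 0 := Nat.cast_ne_zero.mpr Nat.card_pos.ne'
    exact mul_ne_zero (mul_ne_zero (inv_ne_zero hcard) hcardZ)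
      (mul_ne_zero hd ((map_ne_zero _).mpr hd))
  have h4 : ∃ ψ ∈ e, ∑ z : Z, μ (z : K) * conj (CentralDef.lam ψ.1 (z : K)) ≠ 0 := by
    by_contra hcon
    push Not at hcon
    apply h3
    rw [h1, finsum_mem_eq_zero_of_forall_eq_zero, mul_zero]
    intro ψ hψ
    rw [hcon ψ hψ, mul_zero]
  obtain ⟨ψ, hψ, hne⟩ := h4
  refine ⟨ψ, hψ, ?_⟩
  intro z₀ hz₀
  have hshift : ∑ z : Z, μ (z : K) * conj (CentralDef.lam ψ.1 (z : K))
      = (μ z₀ * conj (CentralDef.lam ψ.1 z₀))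
        * ∑ z : Z, μ (z : K) * conj (CentralDef.lam ψ.1 (z : K)) := by
    rw [Finset.mul_sum, ← Equiv.sum_comp (Equiv.mulLeft (⟨z₀, hz₀⟩ : Z))]
    apply Finset.sum_congr rfl
    intro z _
    show μ (z₀ * (z : K)) * conj (CentralDef.lam ψ.1 (z₀ * (z : K))) = _
    rw [hμmul z₀ hz₀ z z.2, CentralDef.lam_mul ψ (hZc hz₀) z, map_mul]
    ring
  have h5 : μ z₀ * conj (CentralDef.lam ψ.1 z₀) = 1 := by
    apply mul_right_cancel₀ hne
    rw [one_mul]
    exact hshift.symm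
  have h6 := (CentralDef.lam_spec ψ (hZc hz₀)).1
  calc CentralDef.lam ψ.1 z₀
      = (μ z₀ * conj (CentralDef.lam ψ.1 z₀)) * CentralDef.lam ψ.1 z₀ := by rw [h5, one_mul]
    _ = μ z₀ * (conj (CentralDef.lam ψ.1 z₀) * CentralDef.lam ψ.1 z₀) := by ring
    _ = μ z₀ := by rw [h6, mul_one]

theorem central_regular_eq {K : Type u} [Group K] [Fintype K] {p : ℕ} [Fact p.Prime]
    (hM : IsPModular p M) (e : Set (IrrCharacter K)) (he : IsPBlock M e) (Z : Subgroup K)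
    (hZ : IsDefectGroup p M e Z) (hZc : Z ≤ Subgroup.center K) (ψ₁ ψ₂ : IrrCharacter K)
    (h₁ : ψ₁ ∈ e) (h₂ : ψ₂ ∈ e) (s : K) (hs : ¬ p ∣ orderOf s) : ψ₁.1 s = ψ₂.1 s := by
  classical
  have hp : p.Prime := Fact.out
  have hcard : (Nat.card K : ℂ) ≠ 0 := Nat.cast_ne_zero.mpr Nat.card_pos.ne'
  have hcardZ : (Nat.card Z : ℂ) ≠ 0 := Nat.cast_ne_zero.mpr Nat.card_pos.ne'
  have hc : (Nat.card K : ℂ)⁻¹ * (Nat.card Z : ℂ) ≠ 0 := mul_ne_zero (inv_ne_zero hcard) hcardZ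
  have key : ∀ t : K, ¬ p ∣ orderOf t →
      ψ₁.1 1 * conj (ψ₁.1 t) = ψ₂.1 1 * conj (ψ₂.1 t) := by
    intro t ht
    have a1 := CentralDef.coeff_eq hM e he Z hZ hZc ψ₁ h₁ t ht
    have a2 := CentralDef.coeff_eq hM e he Z hZ hZc ψ₂ h₂ t ht
    rw [a1] at a2
    exact mul_left_cancel₀ hc a2
  have hs1 : ¬ p ∣ orderOf (1 : K) := by
    rw [orderOf_one]
    exact hp.not_dvd_one
  have k1 := key 1 hs1
  have d1 := CharBasic.char_one_nat (CharBasic.isCharacter_of_irr ψ₁.2)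
  have d2 := CharBasic.char_one_nat (CharBasic.isCharacter_of_irr ψ₂.2)
  have hdeg : ψ₁.1 1 = ψ₂.1 1 := by
    rw [d1, d2] at k1 ⊢
    rw [Complex.conj_natCast, Complex.conj_natCast] at k1
    have k2 : charDegree ψ₁.1 * charDegree ψ₁.1 = charDegree ψ₂.1 * charDegree ψ₂.1 := by
      exact_mod_cast k1
    rw [Nat.mul_self_inj.mp k2]
  have k3 := key s hs
  rw [hdeg] at k3
  have k4 := mul_left_cancel₀ (CharBasic.irr_one_ne_zero ψ₂.2) k3
  exact (starRingEnd ℂ).injective k4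

theorem decomp_left_unique (P : Subgroup G) (ζ ζ' : IrrCharacter P)
    (ψ ψ' : IrrCharacter (Subgroup.centralizer (P : Set G)))
    (h : ∀ (y : P) (c : Subgroup.centralizer (P : Set G)),
      ζ.1 y * ψ.1 c = ζ'.1 y * ψ'.1 c) : ζ = ζ' := by
  classical
  by_contra hne
  have h0 := classInner_irr_ne ζ.2 ζ'.2 (fun h => hne (Subtype.ext h))
  have hψ := CharBasic.irr_one_ne_zero ψ.2
  have hψ' := CharBasic.irr_one_ne_zero ψ'.2
  have h1 : ζ.1 = (ψ'.1 1 / ψ.1 1) • ζ'.1 := by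
    funext y
    have h2 := h y 1
    show ζ.1 y = (ψ'.1 1 / ψ.1 1) * ζ'.1 y
    field_simp
    rw [h2]
    ring
  rw [h1, classInner_smul_left, classInner_irr_self ζ'.2, mul_one] at h0
  exact (div_ne_zero hψ' hψ) h0


theorem lam_agree (P : Subgroup G) (χ : IrrCharacter G) (ζ : IrrCharacter P)
    (ψ : IrrCharacter (Subgroup.centralizer (P : Set G)))
    (hχ : ∀ (y : P) (c : Subgroup.centralizer (P : Set G)),
      χ.1 ((y : G) * (c : G)) = ζ.1 y * ψ.1 c)
    (z : Subgroup.centralizer (P : Set G)) (hz : (z : G) ∈ P) :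
    CentralDef.lam ψ.1 z = ζ.1 ⟨(z : G), hz⟩ / ζ.1 1 := by
  have hψ := CharBasic.irr_one_ne_zero ψ.2
  have hζ := CharBasic.irr_one_ne_zero ζ.2
  have h1 := hχ ⟨(z : G), hz⟩ 1
  have h2 := hχ 1 z
  rw [Subgroup.coe_one, one_mul] at h2
  have h3 : ((⟨(z : G), hz⟩ : P) : G) * ((1 : Subgroup.centralizer (P : Set G)) : G) = (z : G) := by
    rw [Subgroup.coe_one, mul_one]
  rw [h3, h2] at h1
  show ψ.1 z / ψ.1 1 = ζ.1 ⟨(z : G), hz⟩ / ζ.1 1
  rw [div_eq_div_iff hψ hζ]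
  rw [mul_comm, h1]

theorem exists_mem_decomp {p : ℕ} [Fact p.Prime] (hM : IsPModular p M) (P : Subgroup G)
    [P.Normal] (hP : IsPGroup p P) (hsup : P ⊔ Subgroup.centralizer (P : Set G) = ⊤)
    (B : Set (IrrCharacter G)) (hB : IsPBlock M B) (hD : IsDefectGroup p M B P)
    (θ : IrrCharacter G) (hθ : θ ∈ B) (hker : ∀ x ∈ P, θ.1 x = θ.1 1)
    (ζ : IrrCharacter P) :
    ∃ χ ∈ B, ∃ ψ : IrrCharacter (Subgroup.centralizer (P : Set G)),
      ∀ (y : P) (c : Subgroup.centralizer (P : Set G)),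
        χ.1 ((y : G) * (c : G)) = ζ.1 y * ψ.1 c := by
  classical
  obtain ⟨ψ₀, hψ₀⟩ := exists_res P hsup θ hker
  have he : IsPBlock M (blockOf M ψ₀.1) := ⟨ψ₀, rfl⟩
  have hZ := res_block hM P hP hsup B hB hD θ hθ hker ψ₀ hψ₀
  have hZc := subgroupOf_le_center P
  obtain ⟨μ, hμ⟩ : ∃ μ : Subgroup.centralizer (P : Set G) → ℂ,
      μ = fun c : Subgroup.centralizer (P : Set G) =>
        if h : (c : G) ∈ P then CentralDef.lam ζ.1 ⟨(c : G), h⟩ else 0 := ⟨_, rfl⟩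
  have hμv : ∀ (c : Subgroup.centralizer (P : Set G)) (h : (c : G) ∈ P),
      μ c = CentralDef.lam ζ.1 ⟨(c : G), h⟩ := by
    intro c h
    rw [hμ]
    exact dif_pos h
  have hcen : ∀ (c : Subgroup.centralizer (P : Set G)) (h : (c : G) ∈ P),
      (⟨(c : G), h⟩ : P) ∈ Subgroup.center P := by
    intro c h
    rw [Subgroup.mem_center_iff]
    intro y
    apply Subtype.ext
    exact Subgroup.mem_centralizer_iff.mp c.2 y y.2
  have hμ1 : μ 1 = 1 := by
    rw [hμv 1 P.one_mem]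
    exact CentralDef.lam_one ζ
  have hμmul : ∀ z ∈ P.subgroupOf (Subgroup.centralizer (P : Set G)),
      ∀ w ∈ P.subgroupOf (Subgroup.centralizer (P : Set G)), μ (z * w) = μ z * μ w := by
    intro z hz w hw
    have hz' : (z : G) ∈ P := Subgroup.mem_subgroupOf.mp hz
    have hw' : (w : G) ∈ P := Subgroup.mem_subgroupOf.mp hw
    rw [hμv z hz', hμv w hw', hμv (z * w) (P.mul_mem hz' hw'),
      ← CentralDef.lam_mul ζ (hcen z hz') ⟨(w : G), hw'⟩]
    rfl
  obtain ⟨ψ, hψ, hlam⟩ := exists_lam_eq hM _ he _ hZ hZc μ hμ1 hμmul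
  have hcompat : ∀ (y : P) (c : Subgroup.centralizer (P : Set G)), (y : G) * (c : G) = 1 →
      ζ.1 y * ψ.1 c = ζ.1 1 * ψ.1 1 := by
    intro y c hyc
    have hcy : (c : G) = (y : G)⁻¹ := eq_inv_of_mul_eq_one_right hyc
    have hcP : (c : G) ∈ P := by
      rw [hcy]
      exact P.inv_mem y.2
    have h1 := hlam c (Subgroup.mem_subgroupOf.mpr hcP)
    rw [hμv c hcP] at h1
    have h2 : (⟨(c : G), hcP⟩ : P) = y⁻¹ := Subtype.ext hcy
    rw [h2] at h1
    have hyc' : (⟨(c : G), hcP⟩ : P) ∈ Subgroup.center P := hcen c hcP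
    rw [h2] at hyc'
    have h3 := (CentralDef.lam_spec ζ hyc').2 y
    rw [inv_mul_cancel] at h3
    have hψ1 := CharBasic.irr_one_ne_zero ψ.2
    have hζ1 := CharBasic.irr_one_ne_zero ζ.2
    have h4 : ψ.1 c = CentralDef.lam ζ.1 y⁻¹ * ψ.1 1 := by
      rw [← h1]
      show ψ.1 c = ψ.1 c / ψ.1 1 * ψ.1 1
      field_simp
    rw [h4, h3]
    ring
  obtain ⟨χ, hχ⟩ := exists_of_compat P hsup ζ ψ hcompat
  exact ⟨χ, (mem_iff hM P hP hsup B hB θ hθ ψ₀ hψ₀ χ ζ ψ hχ).mpr hψ, ψ, hχ⟩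

theorem decomp_right_unique {p : ℕ} [Fact p.Prime] (hM : IsPModular p M) (P : Subgroup G)
    [P.Normal] (hP : IsPGroup p P) (hsup : P ⊔ Subgroup.centralizer (P : Set G) = ⊤)
    (B : Set (IrrCharacter G)) (hB : IsPBlock M B) (hD : IsDefectGroup p M B P)
    (θ : IrrCharacter G) (hθ : θ ∈ B) (hker : ∀ x ∈ P, θ.1 x = θ.1 1)
    (χ₁ χ₂ : IrrCharacter G) (h₁ : χ₁ ∈ B) (h₂ : χ₂ ∈ B) (ζ : IrrCharacter P)
    (ψ₁ ψ₂ : IrrCharacter (Subgroup.centralizer (P : Set G)))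
    (hχ₁ : ∀ (y : P) (c : Subgroup.centralizer (P : Set G)),
      χ₁.1 ((y : G) * (c : G)) = ζ.1 y * ψ₁.1 c)
    (hχ₂ : ∀ (y : P) (c : Subgroup.centralizer (P : Set G)),
      χ₂.1 ((y : G) * (c : G)) = ζ.1 y * ψ₂.1 c) : χ₁ = χ₂ := by
  classical
  obtain ⟨ψ₀, hψ₀⟩ := exists_res P hsup θ hker
  have he : IsPBlock M (blockOf M ψ₀.1) := ⟨ψ₀, rfl⟩
  have hZ := res_block hM P hP hsup B hB hD θ hθ hker ψ₀ hψ₀
  have hZc := subgroupOf_le_center P
  have m₁ := (mem_iff hM P hP hsup B hB θ hθ ψ₀ hψ₀ χ₁ ζ ψ₁ hχ₁).mp h₁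
  have m₂ := (mem_iff hM P hP hsup B hB θ hθ ψ₀ hψ₀ χ₂ ζ ψ₂ hχ₂).mp h₂
  have hψ : ψ₁ = ψ₂ := by
    apply CentralDef.lam_inj hM _ he _ hZ hZc ψ₁ ψ₂ m₁ m₂
    intro z hz
    have hz' : (z : G) ∈ P := Subgroup.mem_subgroupOf.mp hz
    rw [lam_agree P χ₁ ζ ψ₁ hχ₁ z hz', lam_agree P χ₂ ζ ψ₂ hχ₂ z hz']
  apply Subtype.ext
  funext g
  obtain ⟨y, c, rfl⟩ := exists_mul P hsup g
  rw [hχ₁, hχ₂, hψ]

theorem conds {p : ℕ} [Fact p.Prime] (hM : IsPModular p M) (P : Subgroup G)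
    [P.Normal] (hP : IsPGroup p P) (hsup : P ⊔ Subgroup.centralizer (P : Set G) = ⊤)
    (B : Set (IrrCharacter G)) (hB : IsPBlock M B) (hD : IsDefectGroup p M B P)
    (θ : IrrCharacter G) (hθ : θ ∈ B) (hker : ∀ x ∈ P, θ.1 x = θ.1 1)
    (χ : IrrCharacter G) (hχB : χ ∈ B) (ζ : IrrCharacter P)
    (ψ : IrrCharacter (Subgroup.centralizer (P : Set G)))
    (hχ : ∀ (y : P) (c : Subgroup.centralizer (P : Set G)),
      χ.1 ((y : G) * (c : G)) = ζ.1 y * ψ.1 c) :
    (∀ (y : P) (x : G), ¬ p ∣ orderOf x → Commute (y : G) x →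
      χ.1 ((y : G) * x) = ζ.1 y * θ.1 x) ∧
    (∀ z : G, (∀ y : G, IsPPart p z y → y ∉ P) → χ.1 z = 0) := by
  classical
  have hmax := hM.2.1
  have hp : p.Prime := Fact.out
  have hC := PrinRank.index_centralizer_pow P hP hsup
  obtain ⟨ψ₀, hψ₀⟩ := exists_res P hsup θ hker
  have he : IsPBlock M (blockOf M ψ₀.1) := ⟨ψ₀, rfl⟩
  have hZ := res_block hM P hP hsup B hB hD θ hθ hker ψ₀ hψ₀
  have hZc := subgroupOf_le_center P
  have m := (mem_iff hM P hP hsup B hB θ hθ ψ₀ hψ₀ χ ζ ψ hχ).mp hχB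
  constructor
  · intro y x hx _
    have hxC := mem_centralizer_of_regular P hC x hx
    have h1 := hχ y ⟨x, hxC⟩
    have hord : ¬ p ∣ orderOf (⟨x, hxC⟩ : Subgroup.centralizer (P : Set G)) := by
      rw [← Subgroup.orderOf_coe]
      exact hx
    have h2 := central_regular_eq hM _ he _ hZ hZc ψ ψ₀ m (mem_blockOf_self hmax ψ₀)
      ⟨x, hxC⟩ hord
    have h3 := hψ₀ 1 ⟨x, hxC⟩
    rw [Subgroup.coe_one, one_mul] at h3
    rw [h1, h2, ← h3]
  · intro z hz
    obtain ⟨x, hx⟩ := SecondMain.exists_isPPart hp z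
    apply SecondMain.vanish_off_defect hM χ z x hx
    intro D' hD'
    rw [← Defect.block_eq_blockOf hmax B hB hχB] at hD'
    have hle := Brauer.normal_le_defect hM P hP B hB D' hD'
    have hc1 := DefectGroup.card_defectGroup hM B hB P hD
    have hc2 := DefectGroup.card_defectGroup hM B hB D' hD'
    have heq : P = D' := Subgroup.eq_of_le_of_card_ge hle (by rw [hc1, hc2])
    rw [← heq]
    exact hz x hx

theorem card_block {p : ℕ} [Fact p.Prime] (hM : IsPModular p M) (P : Subgroup G)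
    (hP : IsPGroup p P) (hsup : P ⊔ Subgroup.centralizer (P : Set G) = ⊤)
    (B : Set (IrrCharacter G)) (hB : IsPBlock M B) (hD : IsDefectGroup p M B P) :
    Nat.card B = Nat.card (ConjClasses P) := by
  classical
  have hPn : P.Normal := normal_of_sup P hsup
  obtain ⟨θ, hθ, hker⟩ := exists_ker_in_block hM P hP B hB
  rw [← card_irr]
  have hR1 : ∀ χ : B, ∃ ζ : IrrCharacter P,
      ∃ ψ : IrrCharacter (Subgroup.centralizer (P : Set G)),
        ∀ (y : P) (c : Subgroup.centralizer (P : Set G)),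
          χ.1.1 ((y : G) * (c : G)) = ζ.1 y * ψ.1 c := fun χ => exists_decomp P hsup χ.1
  choose f hf using hR1
  apply Nat.card_eq_of_bijective f
  constructor
  · intro χ₁ χ₂ h
    obtain ⟨ψ₁, h₁⟩ := hf χ₁
    obtain ⟨ψ₂, h₂⟩ := hf χ₂
    rw [h] at h₁
    exact Subtype.ext (decomp_right_unique hM P hP hsup B hB hD θ hθ hker χ₁.1 χ₂.1 χ₁.2 χ₂.2
      (f χ₂) ψ₁ ψ₂ h₁ h₂)
  · intro ζ
    obtain ⟨χ, hχB, ψ, hχ⟩ := exists_mem_decomp hM P hP hsup B hB hD θ hθ hker ζ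
    refine ⟨⟨χ, hχB⟩, ?_⟩
    obtain ⟨ψ', h'⟩ := hf ⟨χ, hχB⟩
    exact decomp_left_unique P (f ⟨χ, hχB⟩) ζ ψ' ψ (fun y c => by rw [← h' y c, hχ y c])

end Cfsg.Agent.Lib.Helper24.CentProd
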