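import Mathlib
import Cfsg.Agent.Lib.Helper24.CentralDef
import Cfsg.Agent.Lib.Helper24.Brauer23
import Cfsg.Agent.S0911
import Cfsg.Agent.S0927

set_option autoImplicit false

namespace Cfsg.Agent.Lib.Helper24.CentZ

open Cfsg Cfsg.Agent.Lib.Helper1 Cfsg.Agent.Lib.Helper6 Cfsg.Agent.Lib.Helper24
open scoped ComplexConjugate

universe u

variable {G : Type u} [Group G] [Fintype G] {M : Ideal AlgInt}

theorem exists_class_of_induced (hM : M.IsMaximal) (H : Subgroup G) [Fintype H]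
    (ξ : IrrCharacter H) (g : G)
    (h : ¬ MemLocalIdeal M (inducedCentralChar H (ξ : H → ℂ) g)) :
    ∃ k : H, IsConj g (k : G) ∧ ¬ MemLocalIdeal M (centralChar (ξ : H → ℂ) k) := by
  classical
  have hfinC : Fintype (ConjClasses H) := Fintype.ofFinite _
  by_contra hcon
  push Not at hcon
  apply h
  rw [← Brauer.omega_res_cind, omega_eq_sum_classes (irr_isClassFunction ξ)
    (Brauer.isClassFunction_res (Brauer.inv_of_isClassFunction (isClassFunction_cind g) H))]
  apply memLocalIdeal_sum hM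
  intro C _
  by_cases hc : IsConj g ((crep C : H) : G)
  · have h1 : Brauer.res H (cind g) (crep C) = 1 := Brauer.cind_pos hc.symm
    rw [h1, one_mul]
    exact hcon _ hc
  · have h1 : Brauer.res H (cind g) (crep C) = 0 := Brauer.cind_neg (fun h' => hc h'.symm)
    rw [h1, zero_mul]
    exact memLocalIdeal_zero hM

omit [Fintype G] in
theorem isPPart_coe {p : ℕ} (H : Subgroup G) {k z : H} (h : IsPPart p k z) :
    IsPPart p (k : G) (z : G) := by
  obtain ⟨y, hy1, hy2, ⟨j, hj⟩, hy3⟩ := h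
  refine ⟨(y : G), ?_, ?_, ⟨j, ?_⟩, ?_⟩
  · rw [← hy1]
    rfl
  · show (z : G) * (y : G) = (y : G) * (z : G)
    exact congrArg Subtype.val hy2
  · rw [← hj]
    exact Subgroup.orderOf_coe z
  · rw [Subgroup.orderOf_coe]
    exact hy3

theorem cent_conj {p : ℕ} [Fact p.Prime] (hM : IsPModular p M) (B : Set (IrrCharacter G))
    (hB : IsPBlock M B) (P : Subgroup G) (hP : IsDefectGroup p M B P) (g : G)
    (hg : ∃ χ ∈ B, ¬ MemLocalIdeal M (centralChar (χ : G → ℂ) g)) :
    ∃ x : G, IsConj g x ∧ x ∈ Subgroup.centralizer (P : Set G) ∧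
      ∀ z : G, IsPPart p x z → z ∈ P ∧ ∀ w ∈ P, z * w = w * z := by
  classical
  have hmax := hM.2.1
  have hp : p.Prime := hM.1
  obtain ⟨N, hNdef⟩ : ∃ N : Subgroup G, N = Subgroup.normalizer (P : Set G) := ⟨_, rfl⟩
  have hPN : P ≤ N := by
    rw [hNdef]
    exact Subgroup.le_normalizer
  obtain ⟨P', hP'def⟩ : ∃ P' : Subgroup N, P' = P.subgroupOf N := ⟨_, rfl⟩
  have hmap : P'.map N.subtype = P := by
    rw [hP'def]
    exact Subgroup.map_subgroupOf_eq_of_le hPN
  have hPp : IsPGroup p P := CentralDef.defect_pgroup hM B hB P hP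
  have hP'p : IsPGroup p P' := by
    rw [hP'def]
    exact hPp.comap_subtype
  have hNH : Subgroup.normalizer ((P'.map N.subtype : Subgroup G) : Set G) ≤ N := by
    rw [hmap, hNdef]
  have hP'n : P'.Normal := by
    rw [hP'def, hNdef]
    exact Subgroup.normal_in_normalizer
  obtain ⟨b, ⟨hb, hbD, hind⟩, -⟩ := (Brauer.first_induced hM N P' hP'p hNH).2 B hB
    (by rw [hmap]; exact hP)
  obtain ⟨χ, hχ, hχg⟩ := hg
  obtain ⟨ξ, hξ⟩ := Defect.block_nonempty hmax b hb
  have h1 := hind.2.2 ξ hξ χ hχ g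
  have h2 : ¬ MemLocalIdeal M (inducedCentralChar N (ξ : N → ℂ) g) := by
    intro h3
    apply hχg
    have h4 := MemLocalIdeal.sub hmax h3 h1
    convert h4 using 1
    ring
  obtain ⟨k, hk, hkω⟩ := exists_class_of_induced hmax N ξ g h2
  have hconjP' : ∀ D : Subgroup N, IsDefectGroup p M b D → D = P' := by
    intro D hD
    obtain ⟨y, hy⟩ := Brauer.defectGroup_conj hM b hb P' D hbD hD
    rw [hy]
    ext w
    constructor
    · rintro ⟨w', hw', rfl⟩
      exact hP'n.conj_mem w' hw' y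
    · intro hw
      refine ⟨y⁻¹ * w * y, ?_, ?_⟩
      · have h5 := hP'n.conj_mem w hw y⁻¹
        rw [inv_inv] at h5
        exact h5
      · show y * (y⁻¹ * w * y) * y⁻¹ = w
        group
  have hcentk : ∀ w ∈ P, w * (k : G) = (k : G) * w := by
    intro w hw
    obtain ⟨g₀, hg₀, S₀, hS₀⟩ := hbD
    obtain ⟨x, Q, hxQ⟩ := (Cfsg.Agent.S0911.result p M hM b hb g₀ hg₀ S₀ k).2 ⟨ξ, hξ, hkω⟩
    rw [← hS₀] at hxQ
    have hw' : (⟨w, hPN hw⟩ : N) ∈ P' := by
      rw [hP'def]
      exact Subgroup.mem_subgroupOf.mpr hw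
    have h5 : (⟨w, hPN hw⟩ : N) ∈ P'.map (MulAut.conj x).toMonoidHom := by
      refine ⟨x⁻¹ * ⟨w, hPN hw⟩ * x, ?_, ?_⟩
      · have h6 := hP'n.conj_mem _ hw' x⁻¹
        rw [inv_inv] at h6
        exact h6
      · show x * (x⁻¹ * ⟨w, hPN hw⟩ * x) * x⁻¹ = ⟨w, hPN hw⟩
        group
    have h6 := hxQ h5
    have h7 : (⟨w, hPN hw⟩ : N) ∈ Subgroup.centralizer ({k} : Set N) :=
      Subgroup.map_subtype_le _ h6
    have h8 := Subgroup.mem_centralizer_iff.mp h7 k rfl
    exact (congrArg Subtype.val h8).symm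
  refine ⟨(k : G), hk, ?_, ?_⟩
  · apply Subgroup.mem_centralizer_iff.mpr
    intro w hw
    exact hcentk w hw
  · intro z hz
    obtain ⟨z', hz'⟩ := SecondMain.exists_isPPart hp k
    have hzz : z = (z' : G) := Subsec.isPPart_unique hp hz (isPPart_coe N hz')
    have hξk : (ξ : N → ℂ) k ≠ 0 := by
      intro h0
      apply hkω
      have h6 : centralChar (ξ : N → ℂ) k = 0 := by
        show ((Subgroup.centralizer ({k} : Set N)).index : ℂ) * (ξ : N → ℂ) k
          / (ξ : N → ℂ) 1 = 0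
        rw [h0, mul_zero, zero_div]
      rw [h6]
      exact memLocalIdeal_zero hmax
    have hz'P : z' ∈ P' := by
      by_contra hnot
      apply hξk
      apply SecondMain.vanish_off_defect hM ξ k z' hz'
      intro D hD
      rw [← Defect.block_eq_blockOf hmax b hb hξ] at hD
      rw [hconjP' D hD]
      exact hnot
    have hzP : z ∈ P := by
      rw [hzz]
      rw [hP'def] at hz'P
      exact Subgroup.mem_subgroupOf.mp hz'P
    refine ⟨hzP, ?_⟩
    intro w hw
    have h9 : IsPPart p (w * (k : G) * w⁻¹) (w * z * w⁻¹) := (Subsec.isPPart_conj w).mpr hz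
    have h10 : w * (k : G) * w⁻¹ = (k : G) := by
      rw [hcentk w hw, mul_inv_cancel_right]
    rw [h10] at h9
    have h11 : w * z * w⁻¹ = z := Subsec.isPPart_unique hp h9 hz
    calc z * w = w * z * w⁻¹ * w := by rw [h11]
      _ = w * z := by group

theorem center_fusion {p : ℕ} [Fact p.Prime] (hM : IsPModular p M) (H : Subgroup G)
    (b : Set (IrrCharacter H)) (B : Set (IrrCharacter G)) (hind : IsInducedBlock M H b B)
    (D : Subgroup H) (hD : IsDefectGroup p M b D) (P : Subgroup G)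
    (hP : IsDefectGroup p M B P) (x : G) (hx : x ∈ P) (hxc : ∀ w ∈ P, x * w = w * x) :
    ∃ g : G, g * x * g⁻¹ ∈ D.map H.subtype ∧
      ∀ w ∈ D.map H.subtype, (g * x * g⁻¹) * w = w * (g * x * g⁻¹) := by
  classical
  have hmax := hM.2.1
  have hp : p.Prime := hM.1
  have hfinH : Fintype H := Fintype.ofFinite H
  have hb : IsPBlock M b := hind.1
  have hB : IsPBlock M B := hind.2.1
  have hPp : IsPGroup p P := CentralDef.defect_pgroup hM B hB P hP
  have hxord : ∃ j : ℕ, orderOf x = p ^ j := CentralDef.pgroup_order hp P hPp ⟨x, hx⟩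
  obtain ⟨y₀, hy₀, S₀, hS₀⟩ := hP
  have hxS : x ∈ (S₀ : Subgroup (Subgroup.centralizer ({y₀} : Set G))).map
      (Subgroup.centralizer ({y₀} : Set G)).subtype := by
    rw [← hS₀]
    exact hx
  obtain ⟨x', hx'S, hx'x⟩ := hxS
  have e : (x' : G) = x := hx'x
  have hcomm : ∀ w ∈ (S₀ : Subgroup (Subgroup.centralizer ({y₀} : Set G))),
      x' * w = w * x' := by
    intro w hw
    apply Subtype.ext
    show (x' : G) * (w : G) = (w : G) * (x' : G)
    rw [e]
    exact hxc (w : G) (by rw [hS₀]; exact ⟨w, hw, rfl⟩)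
  obtain ⟨χ, hχ⟩ := Defect.block_nonempty hmax B hB
  have h0927 := (Cfsg.Agent.S0927.result p M hM B hB y₀ hy₀ S₀ x' hx'S).2 hcomm χ hχ
  rw [e] at h0927
  obtain ⟨ξ, hξ⟩ := Defect.block_nonempty hmax b hb
  have h1 := hind.2.2 ξ hξ χ hχ (x * y₀)
  have h2 : ¬ MemLocalIdeal M (inducedCentralChar H (ξ : H → ℂ) (x * y₀)) := by
    intro h3
    apply h0927
    have h4 := MemLocalIdeal.sub hmax h3 h1
    convert h4 using 1
    ring
  obtain ⟨k, hk, hkω⟩ := exists_class_of_induced hmax H ξ (x * y₀) h2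
  obtain ⟨k', hkk', -, hk'part⟩ := cent_conj hM b hb D hD k ⟨ξ, hξ, hkω⟩
  obtain ⟨z', hz'⟩ := SecondMain.exists_isPPart hp k'
  obtain ⟨hz'D, hz'c⟩ := hk'part z' hz'
  have hconj : IsConj (x * y₀) (k' : G) := by
    obtain ⟨c, hc⟩ := isConj_iff.mp hkk'
    have h5 : IsConj (k : G) (k' : G) := isConj_iff.mpr ⟨(c : G), congrArg Subtype.val hc⟩
    exact hk.trans h5
  obtain ⟨t, ht⟩ := isConj_iff.mp hconj
  have hy₀reg : ¬ p ∣ orderOf y₀ := by
    intro hdvd
    apply hy₀.2.1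
    rw [Defect.blockCoeff_eq_zero_of_singular hM B hB y₀ hdvd]
    exact memLocalIdeal_zero hmax
  have hxy : Commute x y₀ := by
    have h6 := Subgroup.mem_centralizer_iff.mp x'.2 y₀ rfl
    rw [e] at h6
    exact h6.symm
  have hpp : IsPPart p (x * y₀) x := Subsec.isPPart_mul hxord hy₀reg hxy
  have hpp2 : IsPPart p (t * (x * y₀) * t⁻¹) (t * x * t⁻¹) := (Subsec.isPPart_conj t).mpr hpp
  rw [ht] at hpp2
  have heq : t * x * t⁻¹ = (z' : G) := Subsec.isPPart_unique hp hpp2 (isPPart_coe H hz')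
  refine ⟨t, ?_, ?_⟩
  · rw [heq]
    exact ⟨z', hz'D, rfl⟩
  · rintro w ⟨w', hw', rfl⟩
    rw [heq]
    exact congrArg Subtype.val (hz'c w' hw')

end Cfsg.Agent.Lib.Helper24.CentZ
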