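import Mathlib
import Cfsg.Agent.Lib.Helper24.Brauer23
import Cfsg.Agent.S0958

set_option autoImplicit false

namespace Cfsg.Agent.Lib.Helper24.ExtFirst

open Cfsg Cfsg.Agent.Lib.Helper1 Cfsg.Agent.Lib.Helper6 Cfsg.Agent.Lib.Helper24
open Cfsg.Agent.Lib.Helper24.Brauer
open scoped ComplexConjugate

universe u

variable {G : Type u} [Group G] [Fintype G] {M : Ideal AlgInt}

theorem set_eq_of_blockCoeff (A A' : Set (IrrCharacter G))
    (h : ∀ g : G, blockCoeff A g = blockCoeff A' g) : A = A' := by
  classical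
  have hfinI : Fintype (IrrCharacter G) := irrFintype
  have hfun : blockCoeff A = blockCoeff A' := funext h
  ext ψ
  have h1 := omega_blockCoeff A ψ
  have h2 := omega_blockCoeff A' ψ
  rw [hfun] at h1
  rw [h1] at h2
  constructor
  · intro hψ
    by_contra hne
    rw [if_pos hψ, if_neg hne] at h2
    exact one_ne_zero h2
  · intro hψ
    by_contra hne
    rw [if_neg hne, if_pos hψ] at h2
    exact zero_ne_one h2

theorem induced_ext {p : ℕ} [Fact p.Prime] (hM : IsPModular p M) (H : Subgroup G)
    (P' : Subgroup H) (hP : IsPGroup p P')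
    (hH : H = P'.map H.subtype
      ⊔ Subgroup.centralizer ((P'.map H.subtype : Subgroup G) : Set G))
    (b : Set (IrrCharacter H)) (hb : IsPBlock M b) (hbP : IsDefectGroup p M b P')
    (B : Set (IrrCharacter G)) (hind : IsInducedBlock M H b B) :
    ∃ f : Set (IrrCharacter (Subgroup.centralizer ((P'.map H.subtype : Subgroup G) : Set G))),
      IsBrauerPairOf p M B (P'.map H.subtype) f ∧
      ext H (blockCoeff b)
        = ext (Subgroup.centralizer ((P'.map H.subtype : Subgroup G) : Set G)) (blockCoeff f) := by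
  classical
  have hmax := hM.2.1
  have hfinH : Fintype H := Fintype.ofFinite _
  have hPH : P'.map H.subtype ≤ H := le_sup_left.trans hH.ge
  have hCX : Subgroup.centralizer ((P'.map H.subtype : Subgroup G) : Set G) ≤ H :=
    le_sup_right.trans hH.ge
  have hHN : H ≤ Subgroup.normalizer ((P'.map H.subtype : Subgroup G) : Set G) :=
    hH.le.trans (sup_le Subgroup.le_normalizer (Subgroup.centralizer_le_normalizer _))
  obtain ⟨e', hmaxH⟩ := exists_maximal_of_defect hM b hb P' hbP
  have hpair := (induced_iff_pair hM H P' hCX b e' hmaxH.1 B hind.2.1).mp hind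
  have hPe := hpair.1
  have hstH : ∀ t ∈ H, StabilizesBlock
      (Subgroup.centralizer ((P'.map H.subtype : Subgroup G) : Set G))
      (upBlock (P'.map H.subtype) H hCX P' le_rfl e') t :=
    fun t ht => stabilizes_of_mem_innerOn _ _ t (le_innerOn _ (hH.le ht))
  obtain ⟨F, hF, hFeq⟩ := exists_block_of_stable hM (P'.map H.subtype) H (hP.map _) hPH hHN hCX
    _ hPe.2 hstH
  have hFp : IsBrauerPairOf p M F P' e' := by
    have h1 := down_pair (P'.map H.subtype) H hCX _ F hF hFeq P' _
      (normal_refl hM _ _ hPe)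
    rw [down_up] at h1
    exact h1
  have hFb : F = b := (pair_block_existsUnique hM P' e' hmaxH.1.1).unique hFp hmaxH.1
  rw [hFb] at hFeq
  refine ⟨upBlock (P'.map H.subtype) H hCX P' le_rfl e', hpair, ?_⟩
  funext g
  by_cases hg : g ∈ H
  · rw [ext_of_mem H _ hg, hFeq ⟨g, hg⟩, subgroupBlockCoeff_eq]
  · rw [ext_of_not_mem H _ hg, ext_of_not_mem _ _ (fun h => hg (hCX h))]

theorem defect_of_induced {p : ℕ} [Fact p.Prime] (hM : IsPModular p M) (H : Subgroup G)
    (P' : Subgroup H) (hP : IsPGroup p P')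
    (hH : H = P'.map H.subtype
      ⊔ Subgroup.centralizer ((P'.map H.subtype : Subgroup G) : Set G))
    (b : Set (IrrCharacter H)) (B : Set (IrrCharacter G)) (hind : IsInducedBlock M H b B)
    (hDG : IsDefectGroup p M B (P'.map H.subtype)) : IsDefectGroup p M b P' := by
  classical
  have hmax := hM.2.1
  have hfinH : Fintype H := Fintype.ofFinite _
  have hb := hind.1
  have hB := hind.2.1
  have hCX : Subgroup.centralizer ((P'.map H.subtype : Subgroup G) : Set G) ≤ H :=
    le_sup_right.trans hH.ge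
  have hHN : H ≤ Subgroup.normalizer ((P'.map H.subtype : Subgroup G) : Set G) :=
    hH.le.trans (sup_le Subgroup.le_normalizer (Subgroup.centralizer_le_normalizer _))
  have hn : P'.Normal := by
    refine ⟨fun n hn g => ?_⟩
    have h1 := (Subgroup.mem_normalizer_iff.mp (hHN g.2) (n : G)).mp ⟨n, hn, rfl⟩
    obtain ⟨m, hm, hme⟩ := h1
    have h2 : m = g * n * g⁻¹ := Subtype.ext hme
    rw [← h2]
    exact hm
  obtain ⟨y, hy⟩ := exists_defectClass hmax b hb
  obtain ⟨S⟩ : Nonempty (Sylow p (Subgroup.centralizer ({y} : Set H))) := inferInstance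
  obtain ⟨Db, hDbdef⟩ : ∃ Db : Subgroup H, Db = (S : Subgroup (Subgroup.centralizer
      ({y} : Set H))).map (Subgroup.centralizer ({y} : Set H)).subtype := ⟨_, rfl⟩
  have hDb : IsDefectGroup p M b Db := ⟨y, hy, S, hDbdef⟩
  have hle := normal_le_defect hM P' hP b hb Db hDb
  obtain ⟨eb, hmaxb⟩ := exists_maximal_of_defect hM b hb Db hDb
  have hle0 : P'.map H.subtype ≤ Db.map H.subtype := Subgroup.map_mono hle
  have hCXb : Subgroup.centralizer ((Db.map H.subtype : Subgroup G) : Set G) ≤ H :=
    (Subgroup.centralizer_le hle0).trans hCX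
  have hG := (induced_iff_pair hM H Db hCXb b eb hmaxb.1 B hB).mp hind
  obtain ⟨S₁, g₁, hmax₁, hle₁⟩ := exists_maximal_above hM B _ _ hG
  have hPS := (chain hM S₁ g₁ hmax₁.1.1.2 _ _ hle₁).1
  have hS₁ := isDefectGroup_of_maximal hM B S₁ g₁ hmax₁
  have hc1 := DefectGroup.card_defectGroup hM B hB S₁ hS₁
  have hc2 := DefectGroup.card_defectGroup hM B hB _ hDG
  have hc3 : Nat.card (Db.map H.subtype) = Nat.card Db :=
    Subgroup.card_map_of_injective H.subtype_injective
  have hc4 : Nat.card (P'.map H.subtype) = Nat.card P' :=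
    Subgroup.card_map_of_injective H.subtype_injective
  have hc5 : Nat.card (Db.map H.subtype) ≤ Nat.card S₁ := Subgroup.card_le_of_le hPS
  have heq : P' = Db := Subgroup.eq_of_le_of_card_ge hle (by
    rw [← hc3, ← hc4, hc2, ← hc1]
    exact hc5)
  rw [heq]
  exact hDb

theorem ext_first {p : ℕ} [Fact p.Prime] (hM : IsPModular p M) (H : Subgroup G)
    (P' : Subgroup H) (hP : IsPGroup p P')
    (hH : H = P'.map H.subtype
      ⊔ Subgroup.centralizer ((P'.map H.subtype : Subgroup G) : Set G))
    (B : Set (IrrCharacter G)) (hB : IsPBlock M B)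
    (hDG : IsDefectGroup p M B (P'.map H.subtype)) :
    (∃ b : Set (IrrCharacter H), IsDefectGroup p M b P' ∧ IsInducedBlock M H b B) ∧
    ∀ b b' : Set (IrrCharacter H), IsInducedBlock M H b B → IsInducedBlock M H b' B →
      ∃ n ∈ Subgroup.normalizer ((P'.map H.subtype : Subgroup G) : Set G),
        ∀ θ ∈ b, ∃ θ' ∈ b', ∀ x : H, ∀ hx : n * (x : G) * n⁻¹ ∈ H,
          (θ' : H → ℂ) x = (θ : H → ℂ) ⟨n * (x : G) * n⁻¹, hx⟩ := by
  classical
  have hmax := hM.2.1
  have hfinH : Fintype H := Fintype.ofFinite _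
  have hPH : P'.map H.subtype ≤ H := le_sup_left.trans hH.ge
  have hCX : Subgroup.centralizer ((P'.map H.subtype : Subgroup G) : Set G) ≤ H :=
    le_sup_right.trans hH.ge
  have hHN : H ≤ Subgroup.normalizer ((P'.map H.subtype : Subgroup G) : Set G) :=
    hH.le.trans (sup_le Subgroup.le_normalizer (Subgroup.centralizer_le_normalizer _))
  have hNH : ∀ x ∈ Subgroup.normalizer ((P'.map H.subtype : Subgroup G) : Set G),
      x ∈ Subgroup.normalizer (H : Set G) := by
    intro x hx
    have h1 := normalizer_sup_le (P'.map H.subtype)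
      (Subgroup.centralizer ((P'.map H.subtype : Subgroup G) : Set G))
      ⟨hx, mem_normalizer_centralizer hx⟩
    rw [Subgroup.mem_normalizer_iff] at h1 ⊢
    intro k
    constructor
    · intro hk
      exact hH.ge ((h1 k).mp (hH.le hk))
    · intro hk
      exact hH.ge ((h1 k).mpr (hH.le hk))
  constructor
  · have h1 : ∃ D : Subgroup G, IsDefectGroup p M B D ∧
        ∃ x : G, (P'.map H.subtype).map (MulAut.conj x).toMonoidHom ≤ D := by
      refine ⟨_, hDG, 1, ?_⟩
      rintro _ ⟨q, hq, rfl⟩
      show 1 * q * (1 : G)⁻¹ ∈ P'.map H.subtype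
      rw [one_mul, inv_one, mul_one]
      exact hq
    obtain ⟨b, hind⟩ := (Cfsg.Agent.S0958.result p M hM (P'.map H.subtype) H (hP.map _)
      hH.ge hHN B hB).mpr h1
    exact ⟨b, defect_of_induced hM H P' hP hH b B hind hDG, hind⟩
  · intro b b' hind hind'
    have hbP := defect_of_induced hM H P' hP hH b B hind hDG
    have hbP' := defect_of_induced hM H P' hP hH b' B hind' hDG
    obtain ⟨f, hpair, hext⟩ := induced_ext hM H P' hP hH b hind.1 hbP B hind
    obtain ⟨f', hpair', hext'⟩ := induced_ext hM H P' hP hH b' hind'.1 hbP' B hind'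
    have hmaxG := maximal_of_defect hM B _ f hpair hDG
    obtain ⟨n, hn⟩ := maximal_conj hM B _ f f' hmaxG hpair'
    have hnH : (n : G) ∈ Subgroup.normalizer (H : Set G) := hNH n n.2
    have hkey : ∀ k : H, blockCoeff (cj H ⟨(n : G), hnH⟩ '' b) k = blockCoeff b' k := by
      intro k
      rw [blockCoeff_image_cj]
      have e1 := congrFun hext (((conjEquiv H ⟨(n : G), hnH⟩).symm k : H) : G)
      have e2 := congrFun hext' (k : G)
      rw [ext_coe] at e1 e2
      rw [e1, e2, hn]
      by_cases hk : (k : G) ∈ Subgroup.centralizer ((P'.map H.subtype : Subgroup G) : Set G)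
      · have hk' : (n : G)⁻¹ * (k : G) * (n : G)
            ∈ Subgroup.centralizer ((P'.map H.subtype : Subgroup G) : Set G) := by
          have h3 := (Subgroup.mem_normalizer_iff.mp
            (Subgroup.inv_mem _ (mem_normalizer_centralizer n.2)) (k : G)).mp hk
          rw [inv_inv] at h3
          exact h3
        rw [conjEquiv_symm_coe]
        show ext _ (blockCoeff f) ((n : G)⁻¹ * (k : G) * (n : G)) = ext _ (blockCoeff (n • f)) (k : G)
        rw [ext_of_mem _ _ hk, ext_of_mem _ _ hk']
        have h4 := blockCoeff_smul _ n f ⟨(n : G)⁻¹ * (k : G) * (n : G), hk'⟩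
        rw [← h4]
        congr 1
        apply Subtype.ext
        rw [cAct_coe]
        show (n : G) * ((n : G)⁻¹ * (k : G) * (n : G)) * (n : G)⁻¹ = (k : G)
        group
      · have hk' : (n : G)⁻¹ * (k : G) * (n : G)
            ∉ Subgroup.centralizer ((P'.map H.subtype : Subgroup G) : Set G) := by
          intro h5
          apply hk
          have h3 := (Subgroup.mem_normalizer_iff.mp (mem_normalizer_centralizer n.2) _).mp h5
          have e3 : (n : G) * ((n : G)⁻¹ * (k : G) * (n : G)) * (n : G)⁻¹ = (k : G) := by group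
          rw [e3] at h3
          exact h3
        rw [conjEquiv_symm_coe]
        show ext _ (blockCoeff f) ((n : G)⁻¹ * (k : G) * (n : G)) = ext _ (blockCoeff (n • f)) (k : G)
        rw [ext_of_not_mem _ _ hk, ext_of_not_mem _ _ hk']
    have hset := set_eq_of_blockCoeff _ _ hkey
    refine ⟨(n : G)⁻¹, Subgroup.inv_mem _ n.2, ?_⟩
    intro θ hθ
    refine ⟨cj H ⟨(n : G), hnH⟩ θ, ?_, ?_⟩
    · rw [← hset]
      exact ⟨θ, hθ, rfl⟩
    · intro x hx
      rw [cj_apply]
      have e5 : (conjEquiv H ⟨(n : G), hnH⟩).symm x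
          = (⟨(n : G)⁻¹ * (x : G) * ((n : G)⁻¹)⁻¹, hx⟩ : H) := by
        apply Subtype.ext
        rw [conjEquiv_symm_coe]
        show (n : G)⁻¹ * (x : G) * (n : G) = (n : G)⁻¹ * (x : G) * ((n : G)⁻¹)⁻¹
        rw [inv_inv]
      rw [e5]

end Cfsg.Agent.Lib.Helper24.ExtFirst
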