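import Mathlib
import Cfsg.Agent.Lib.Helper24.CentProd
import Cfsg.Agent.Lib.Helper24.ExtFirst
import Cfsg.Agent.Lib.Helper24.CentZ
import Cfsg.Agent.Lib.Helper1.CharIto
import Cfsg.Agent.Lib.Helper1.CharPElem
import Cfsg.Agent.Lib.Helper1.CharMore
import Cfsg.Agent.Lib.Helper23.TwoDeg2

set_option autoImplicit false

namespace Cfsg.Agent.Lib.Helper24.Reynolds

open Cfsg Cfsg.Agent.Lib.Helper1 Cfsg.Agent.Lib.Helper6 Cfsg.Agent.Lib.Helper24
open scoped ComplexConjugate

universe u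

variable {G : Type u} [Group G] [Fintype G] {M : Ideal AlgInt}

theorem exists_defectGroup {p : ℕ} [Fact p.Prime] (hmax : M.IsMaximal)
    (B : Set (IrrCharacter G)) (hB : IsPBlock M B) : ∃ D : Subgroup G, IsDefectGroup p M B D := by
  obtain ⟨y, hy⟩ := exists_defectClass hmax B hB
  obtain ⟨S⟩ : Nonempty (Sylow p (Subgroup.centralizer ({y} : Set G))) := inferInstance
  exact ⟨_, y, hy, S, rfl⟩

theorem exists_mem_deg {p : ℕ} [Fact p.Prime] (hM : IsPModular p M) (P : Subgroup G)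
    (hP : IsPGroup p P) (hsup : P ⊔ Subgroup.centralizer (P : Set G) = ⊤)
    (B : Set (IrrCharacter G)) (hB : IsPBlock M B) (hD : IsDefectGroup p M B P)
    (ζ : IrrCharacter P) :
    ∃ χ ∈ B, (charDegree ζ.1).factorization p + P.index.factorization p
      ≤ (charDegree χ.1).factorization p := by
  classical
  have hmax := hM.2.1
  have hPn : P.Normal := CentProd.normal_of_sup P hsup
  obtain ⟨θ, hθ, hker⟩ := exists_ker_in_block hM P hP B hB
  obtain ⟨χ, hχB, ψ, hχ⟩ := CentProd.exists_mem_decomp hM P hP hsup B hB hD θ hθ hker ζ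
  refine ⟨χ, hχB, ?_⟩
  obtain ⟨ψ₀, hψ₀⟩ := CentProd.exists_res P hsup θ hker
  have hZ := CentProd.res_block hM P hP hsup B hB hD θ hθ hker ψ₀ hψ₀
  have m := (CentProd.mem_iff hM P hP hsup B hB θ hθ ψ₀ hψ₀ χ ζ ψ hχ).mp hχB
  have he : IsPBlock M (blockOf M ψ₀.1) := ⟨ψ₀, rfl⟩
  have h1 := CentProd.index_val_le hM _ _ he hZ ψ m
  rw [CentProd.index_subgroupOf P hsup] at h1
  have h2 := hχ 1 1
  rw [Subgroup.coe_one, Subgroup.coe_one, one_mul] at h2
  have dχ := CharBasic.char_one_nat (CharBasic.isCharacter_of_irr χ.2)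
  have dζ := CharBasic.char_one_nat (CharBasic.isCharacter_of_irr ζ.2)
  have dψ := CharBasic.char_one_nat (CharBasic.isCharacter_of_irr ψ.2)
  rw [dχ, dζ, dψ] at h2
  have h3 : charDegree χ.1 = charDegree ζ.1 * charDegree ψ.1 := by exact_mod_cast h2
  have hζ0 : charDegree ζ.1 ≠ 0 := (Defect.charDegree_dvd_card ζ).2.ne'
  have hψ0 : charDegree ψ.1 ≠ 0 := (Defect.charDegree_dvd_card ψ).2.ne'
  rw [h3, Nat.factorization_mul hζ0 hψ0]
  show _ ≤ (charDegree ζ.1).factorization p + (charDegree ψ.1).factorization p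
  omega

theorem mem_of_over {p : ℕ} [Fact p.Prime] (hM : IsPModular p M) (P : Subgroup G) [P.Normal]
    (hP : IsPGroup p P) (H : Subgroup G) [hHn : H.Normal] [Fintype H]
    (hCH : Subgroup.centralizer (P : Set G) ≤ H)
    (b : Set (IrrCharacter H)) (B : Set (IrrCharacter G)) (hind : IsInducedBlock M H b B)
    (θ : IrrCharacter H) (hθ : θ ∈ b) (χ : IrrCharacter G)
    (hover : classInner (fun n : H => χ.1 n) θ.1 ≠ 0) : χ ∈ B := by
  classical
  have hmax := hM.2.1
  have hb := hind.1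
  have hB := hind.2.1
  obtain ⟨χB, hχB⟩ := Defect.block_nonempty hmax B hB
  have hB' : IsPBlock M (blockOf M χ.1) := ⟨χ, rfl⟩
  have key : ∀ (B'' : Set (IrrCharacter G)), IsPBlock M B'' → ∀ ψ ∈ B'', ∀ g : G, g ∉ H →
      MemLocalIdeal M (centralChar ψ.1 g) := by
    intro B'' hB'' ψ hψ g hg
    by_contra hne
    obtain ⟨D, hD⟩ := exists_defectGroup (p := p) hmax B'' hB''
    have hPD := Brauer.normal_le_defect hM P hP B'' hB'' D hD
    obtain ⟨x, hconj, hxc, -⟩ := CentZ.cent_conj hM B'' hB'' D hD g ⟨ψ, hψ, hne⟩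
    have hxH : x ∈ H := hCH (Subgroup.centralizer_le hPD hxc)
    obtain ⟨c, hc⟩ := isConj_iff.mp hconj
    apply hg
    have e1 : g = c⁻¹ * x * c⁻¹⁻¹ := by
      rw [← hc]
      group
    rw [e1]
    exact hHn.conj_mem x hxH c⁻¹
  have hsb : SameBlock M χB.1 χ.1 := by
    intro g
    by_cases hg : g ∈ H
    · have h1 := covering_congr hmax H _ hB' b hb χ (mem_blockOf_self hmax χ) θ hθ hover χ
        (mem_blockOf_self hmax χ) θ hθ g hg
      have h2 := hind.2.2 θ hθ χB hχB g
      have h3 := MemLocalIdeal.neg (MemLocalIdeal.add hmax h1 h2)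
      have e2 : centralChar χB.1 g - centralChar χ.1 g
          = -(centralChar χ.1 g - inducedCentralChar H θ.1 g
            + (inducedCentralChar H θ.1 g - centralChar χB.1 g)) := by ring
      rw [e2]
      exact h3
    · have h1 := key B hB χB hχB g hg
      have h2 := key _ hB' χ (mem_blockOf_self hmax χ) g hg
      exact MemLocalIdeal.sub hmax h1 h2
  rw [Defect.block_eq_blockOf hmax B hB hχB]
  exact hsb

noncomputable def stabB (H : Subgroup G) (b : Set (IrrCharacter H)) : Subgroup G where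
  carrier := {g | ∃ hg : g ∈ Subgroup.normalizer (H : Set G), Brauer.cj H ⟨g, hg⟩ '' b = b}
  one_mem' := ⟨Subgroup.one_mem _, by
    have e1 : (⟨1, Subgroup.one_mem _⟩ : Subgroup.normalizer (H : Set G)) = 1 := rfl
    rw [e1]
    ext χ
    constructor
    · rintro ⟨χ', h', rfl⟩
      rw [Brauer.cj_one]
      exact h'
    · intro h
      exact ⟨χ, h, Brauer.cj_one H χ⟩⟩
  mul_mem' := by
    rintro a c ⟨ha, ea⟩ ⟨hc, ec⟩
    refine ⟨Subgroup.mul_mem _ ha hc, ?_⟩
    have e1 : (⟨a * c, Subgroup.mul_mem _ ha hc⟩ : Subgroup.normalizer (H : Set G))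
        = ⟨a, ha⟩ * ⟨c, hc⟩ := rfl
    rw [e1]
    have h2 : Brauer.cj H ((⟨a, ha⟩ : Subgroup.normalizer (H : Set G)) * ⟨c, hc⟩) '' b
        = Brauer.cj H ⟨a, ha⟩ '' (Brauer.cj H ⟨c, hc⟩ '' b) := by
      rw [Set.image_image]
      apply Set.image_congr
      intro χ _
      exact Brauer.cj_mul H _ _ χ
    rw [h2, ec, ea]
  inv_mem' := by
    rintro a ⟨ha, ea⟩
    refine ⟨Subgroup.inv_mem _ ha, ?_⟩
    have e1 : (⟨a⁻¹, Subgroup.inv_mem _ ha⟩ : Subgroup.normalizer (H : Set G))
        = (⟨a, ha⟩ : Subgroup.normalizer (H : Set G))⁻¹ := rfl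
    rw [e1]
    conv_lhs => rw [← ea]
    rw [Set.image_image]
    have e2 : (fun χ => Brauer.cj H (⟨a, ha⟩ : Subgroup.normalizer (H : Set G))⁻¹
        (Brauer.cj H ⟨a, ha⟩ χ)) = id := funext (fun χ => Brauer.cj_inv_cj H _ χ)
    rw [e2, Set.image_id]

theorem mem_stabB_iff (H : Subgroup G) (b : Set (IrrCharacter H)) (g : G)
    (hg : g ∈ Subgroup.normalizer (H : Set G)) :
    g ∈ stabB H b ↔ ∀ θ ∈ b, ∀ θ' : IrrCharacter H,
      (∀ h h' : H, (h' : G) = g * h * g⁻¹ → (θ' : H → ℂ) h' = (θ : H → ℂ) h) → θ' ∈ b := by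
  constructor
  · rintro ⟨hg', e⟩ θ hθ θ' hconj
    have h2 : θ' = Brauer.cj H ⟨g, hg'⟩ θ :=
      Subtype.ext ((Brauer.isConjCharOf_iff H ⟨g, hg'⟩ (θ : H → ℂ) (θ' : H → ℂ)).mp hconj)
    rw [h2, ← e]
    exact ⟨θ, hθ, rfl⟩
  · intro h
    exact ⟨hg, Brauer.image_cj_eq_of_subset H ⟨g, hg⟩ b (fun χ hχ => h χ hχ _
      ((Brauer.isConjCharOf_iff H ⟨g, hg⟩ (χ : H → ℂ) _).mpr rfl))⟩

theorem charStab_le_stabB (hmax : M.IsMaximal) (H : Subgroup G) [hHn : H.Normal]
    (b : Set (IrrCharacter H)) (hb : IsPBlock M b) (θ : IrrCharacter H) (hθ : θ ∈ b) :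
    charStab H θ.1 ≤ stabB H b := by
  intro g hg
  have hgn : g⁻¹ ∈ Subgroup.normalizer (H : Set G) := by
    rw [Subgroup.normalizer_eq_top_iff.mpr hHn]
    exact Subgroup.mem_top _
  have h1 : Brauer.cj H ⟨g⁻¹, hgn⟩ θ = θ := by
    apply Subtype.ext
    funext k
    rw [Brauer.cj_apply]
    have h2 := congrFun ((mem_charStab H θ.1 g).mp hg) k
    rw [← h2]
    have e5 : (Brauer.conjEquiv H ⟨g⁻¹, hgn⟩).symm k
        = (⟨g * (k : G) * g⁻¹, hHn.conj_mem k k.2 g⟩ : H) := by
      apply Subtype.ext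
      rw [Brauer.conjEquiv_symm_coe]
      show (g⁻¹)⁻¹ * (k : G) * g⁻¹ = g * (k : G) * g⁻¹
      rw [inv_inv]
    rw [e5]
    rfl
  have h3 : Brauer.cj H ⟨g⁻¹, hgn⟩ '' b = b := by
    have e1 := Defect.block_eq_blockOf hmax b hb hθ
    have e2 := Brauer.blockOf_cj (M := M) H ⟨g⁻¹, hgn⟩ θ
    rw [h1] at e2
    rw [e1]
    exact e2.symm
  have h4 : g⁻¹ ∈ stabB H b := ⟨hgn, h3⟩
  have h5 := (stabB H b).inv_mem h4
  rwa [inv_inv] at h5

theorem clifford_deg (H : Subgroup G) [hHn : H.Normal] [Fintype H]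
    (θ : IrrCharacter H) (χ : IrrCharacter G)
    (hover : classInner (fun n : H => χ.1 n) θ.1 ≠ 0) :
    ∃ a : ℕ, charDegree χ.1 = a * (charStab H θ.1).index * charDegree θ.1 := by
  classical
  have hcl := clifford H χ.2 θ.2 hover
  obtain ⟨a, ha⟩ := IsCharacter.classInner_irr_nat
    (IsCharacter.restrict (CharBasic.isCharacter_of_irr χ.2) H) θ.2
  refine ⟨a, ?_⟩
  have h1 := congrFun hcl 1
  have hset : {ψ : H → ℂ | ∃ g : G, ψ = conjChar H θ.1 g}
      = ↑(Finset.univ.image (fun g : G => conjChar H θ.1 g)) := by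
    ext ψ
    simp [eq_comm]
  have h2 : (∑ᶠ ψ ∈ {ψ : H → ℂ | ∃ g : G, ψ = conjChar H θ.1 g}, ψ) 1
      = ((Finset.univ.image (fun g : G => conjChar H θ.1 g)).card : ℂ) * θ.1 1 := by
    rw [hset, finsum_mem_coe_finset, Finset.sum_apply]
    have h3 : ∀ ψ ∈ Finset.univ.image (fun g : G => conjChar H θ.1 g), ψ 1 = θ.1 1 := by
      intro ψ hψ
      obtain ⟨g, -, rfl⟩ := Finset.mem_image.mp hψ
      have e7 : (⟨g * ((1 : H) : G) * g⁻¹, hHn.conj_mem _ (1 : H).2 g⟩ : H) = 1 := by
        apply Subtype.ext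
        show g * ((1 : H) : G) * g⁻¹ = ((1 : H) : G)
        rw [Subgroup.coe_one, mul_one, mul_inv_cancel]
      exact congrArg θ.1 e7
    rw [Finset.sum_congr rfl h3, Finset.sum_const, nsmul_eq_mul]
  have h4 := card_orbit_mul_card_stab H θ.1
  have h5 : (charStab H θ.1).index * Nat.card (charStab H θ.1) = Nat.card G :=
    Subgroup.index_mul_card _
  have h6 : (Finset.univ.image (fun g : G => conjChar H θ.1 g)).card = (charStab H θ.1).index :=
    Nat.eq_of_mul_eq_mul_right Nat.card_pos (h4.trans h5.symm)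
  have h7 : χ.1 1 = (a : ℂ) * (((charStab H θ.1).index : ℂ) * θ.1 1) := by
    have h8 : χ.1 ((1 : H) : G) = (classInner (fun n : H => χ.1 n) θ.1
        • ∑ᶠ ψ ∈ {ψ : H → ℂ | ∃ g : G, ψ = conjChar H θ.1 g}, ψ) 1 := h1
    rw [Pi.smul_apply, smul_eq_mul, h2, ha, h6, Subgroup.coe_one] at h8
    exact h8
  rw [CharBasic.char_one_nat (CharBasic.isCharacter_of_irr χ.2),
    CharBasic.char_one_nat (CharBasic.isCharacter_of_irr θ.2)] at h7
  have h9 : charDegree χ.1 = a * ((charStab H θ.1).index * charDegree θ.1) := by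
    exact_mod_cast h7
  rw [h9, mul_assoc]

theorem exists_p_dvd_degree {K : Type u} [Group K] [Fintype K] {p : ℕ} [Fact p.Prime]
    (hK : IsPGroup p K) (hna : ¬ ∀ a b : K, a * b = b * a) :
    ∃ ζ : IrrCharacter K, 1 ≤ (charDegree ζ.1).factorization p := by
  have hp : p.Prime := Fact.out
  by_contra hcon
  push Not at hcon
  apply hna
  apply abelian_of_all_linear
  intro ζ
  have h1 := hcon ζ
  have h2 := Defect.charDegree_dvd_card ζ
  obtain ⟨n, hn⟩ := IsPGroup.iff_card.mp hK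
  rw [hn] at h2
  obtain ⟨m, hm, hdm⟩ := (Nat.dvd_prime_pow hp).mp h2.1
  have hm0 : m = 0 := by
    rw [hdm, Nat.Prime.factorization_pow hp, Finsupp.single_eq_same] at h1
    omega
  rw [CharBasic.char_one_nat (CharBasic.isCharacter_of_irr ζ.2), hdm, hm0, pow_zero,
    Nat.cast_one]

theorem reynolds {p : ℕ} [Fact p.Prime] (hM : IsPModular p M) (B : Set (IrrCharacter G))
    (hB : IsPBlock M B) (P : Subgroup G) [hPn : P.Normal] (hP : IsDefectGroup p M B P) :
    (∀ a ∈ P, ∀ c ∈ P, a * c = c * a) ↔ ∀ χ ∈ B, blockHeight p B χ.1 = 0 := by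
  classical
  have hmax := hM.2.1
  have hPp : IsPGroup p P := IsPGroup.of_card (DefectGroup.card_defectGroup hM B hB P hP)
  obtain ⟨χ₀, hχ₀, hker₀⟩ := exists_ker_in_block hM P hPp B hB
  have hdeg₀ := CentProd.index_val_eq hM P B hB hP χ₀ hχ₀ hker₀
  have hge : ∀ χ ∈ B, P.index.factorization p ≤ (charDegree χ.1).factorization p :=
    fun χ hχ => CentProd.index_val_le hM P B hB hP χ hχ
  have hInf : sInf ((fun ψ : IrrCharacter G => (charDegree (ψ : G → ℂ)).factorization p) '' B)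
      = P.index.factorization p := by
    apply le_antisymm
    · rw [← hdeg₀]
      exact Nat.sInf_le ⟨χ₀, hχ₀, rfl⟩
    · refine le_csInf (Set.Nonempty.image _ ⟨χ₀, hχ₀⟩) ?_
      rintro _ ⟨ψ, hψ, rfl⟩
      exact hge ψ hψ
  have hht : ∀ χ ∈ B, (blockHeight p B χ.1 = 0
      ↔ (charDegree χ.1).factorization p = P.index.factorization p) := by
    intro χ hχ
    show (charDegree χ.1).factorization p
      - sInf ((fun ψ : IrrCharacter G => (charDegree (ψ : G → ℂ)).factorization p) '' B) = 0 ↔ _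
    rw [hInf]
    have h1 := hge χ hχ
    omega
  constructor
  · intro hab χ hχ
    rw [hht χ hχ]
    apply le_antisymm _ (hge χ hχ)
    have hd := Cfsg.Agent.Lib.Helper23.TwoDeg.degree_dvd_index_of_abelian P hab χ.2
      (CharBasic.char_one_nat (CharBasic.isCharacter_of_irr χ.2))
    exact (Nat.factorization_le_iff_dvd (Defect.charDegree_dvd_card χ).2.ne'
      Subgroup.index_ne_zero_of_finite).mpr hd p
  · intro hall
    by_contra hna
    obtain ⟨H, hHdef⟩ : ∃ H : Subgroup G, H = P ⊔ Subgroup.centralizer (P : Set G) := ⟨_, rfl⟩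
    have hHn : H.Normal := by
      rw [hHdef]
      infer_instance
    have hPH : P ≤ H := by
      rw [hHdef]
      exact le_sup_left
    have hCH : Subgroup.centralizer (P : Set G) ≤ H := by
      rw [hHdef]
      exact le_sup_right
    have hfinH : Fintype H := Fintype.ofFinite _
    obtain ⟨P', hP'def⟩ : ∃ P' : Subgroup H, P' = P.subgroupOf H := ⟨_, rfl⟩
    have hmap : P'.map H.subtype = P := by
      rw [hP'def]
      exact Subgroup.map_subgroupOf_eq_of_le hPH
    have hPp' : IsPGroup p P' := by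
      rw [hP'def]
      exact hPp.comap_subtype
    have hH' : H = P'.map H.subtype
        ⊔ Subgroup.centralizer ((P'.map H.subtype : Subgroup G) : Set G) := by
      rw [hmap]
      exact hHdef
    have hDG' : IsDefectGroup p M B (P'.map H.subtype) := by
      rw [hmap]
      exact hP
    obtain ⟨⟨b, hbP, hind⟩, -⟩ := ExtFirst.ext_first hM H P' hPp' hH' B hB hDG'
    have hb := hind.1
    have hsupH : P' ⊔ Subgroup.centralizer (P' : Set H) = ⊤ := by
      apply top_le_iff.mp
      intro h _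
      have hh : (h : G) ∈ P ⊔ Subgroup.centralizer (P : Set G) := by
        rw [← hHdef]
        exact h.2
      obtain ⟨y, hy, c, hc, hyc⟩ := Cfsg.Agent.Lib.Helper25.MaxPair.exists_of_mem_sup P _
        (Cfsg.Agent.Lib.Helper25.MaxPair.comm_centralizer P) hh
      have e : h = (⟨y, hPH hy⟩ : H) * ⟨c, hCH hc⟩ := Subtype.ext hyc
      rw [e]
      apply Subgroup.mul_mem_sup
      · rw [hP'def]
        exact Subgroup.mem_subgroupOf.mpr hy
      · rw [Subgroup.mem_centralizer_iff]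
        intro k hk
        rw [hP'def] at hk
        apply Subtype.ext
        exact Subgroup.mem_centralizer_iff.mp hc (k : G) (Subgroup.mem_subgroupOf.mp hk)
    have hna' : ¬ ∀ a b : P', a * b = b * a := by
      intro hcomm
      apply hna
      intro a ha c hc
      have ha' : (⟨a, hPH ha⟩ : H) ∈ P' := by
        rw [hP'def]
        exact Subgroup.mem_subgroupOf.mpr ha
      have hc' : (⟨c, hPH hc⟩ : H) ∈ P' := by
        rw [hP'def]
        exact Subgroup.mem_subgroupOf.mpr hc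
      have h1 := hcomm ⟨⟨a, hPH ha⟩, ha'⟩ ⟨⟨c, hPH hc⟩, hc'⟩
      exact congrArg (fun x : P' => ((x : H) : G)) h1
    obtain ⟨ζ, hζ⟩ := exists_p_dvd_degree hPp' hna'
    obtain ⟨θ, hθ, hθdeg⟩ := exists_mem_deg hM P' hPp' hsupH b hb hbP ζ
    obtain ⟨χf, hχf, hover⟩ := exists_irr_above H θ.2
    have hχB : (⟨χf, hχf⟩ : IrrCharacter G) ∈ B :=
      mem_of_over hM P hPp H hCH b B hind θ hθ ⟨χf, hχf⟩ hover
    have hT : ∀ g : G, g ∈ stabB H b ↔
        (g ∈ Subgroup.normalizer ((P'.map H.subtype : Subgroup G) : Set G) ∧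
          ∀ θ ∈ b, ∀ θ' : IrrCharacter H,
            (∀ h h' : H, (h' : G) = g * h * g⁻¹ → (θ' : H → ℂ) h' = (θ : H → ℂ) h) → θ' ∈ b) := by
      intro g
      have hgH : g ∈ Subgroup.normalizer (H : Set G) := by
        rw [Subgroup.normalizer_eq_top_iff.mpr hHn]
        exact Subgroup.mem_top g
      have hgP : g ∈ Subgroup.normalizer ((P'.map H.subtype : Subgroup G) : Set G) := by
        rw [hmap, Subgroup.normalizer_eq_top_iff.mpr hPn]
        exact Subgroup.mem_top g
      rw [mem_stabB_iff H b g hgH]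
      exact ⟨fun h => ⟨hgP, h⟩, fun h => h.2⟩
    have hidx := (Brauer.defect_iff_index hM H P' hPp' hH' b hb hbP B hind (stabB H b) hT).mp hDG'
    have hI := charStab_le_stabB hmax H b hb θ hθ
    have hHI : H ≤ charStab H θ.1 := le_charStab H (irr_isClassFunction θ)
    obtain ⟨a, ha⟩ := clifford_deg H θ ⟨χf, hχf⟩ hover
    have hp : p.Prime := Fact.out
    have e1 := Subgroup.relIndex_mul_relIndex H (charStab H θ.1) (stabB H b) hHI hI
    have hnd : ¬ p ∣ H.relIndex (charStab H θ.1) := fun h => hidx (e1 ▸ Dvd.dvd.mul_right h _)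
    have e2 := Subgroup.relIndex_mul_index hHI
    have e3 := Subgroup.relIndex_mul_index hPH
    have hrel : P.relIndex H = P'.index := by
      rw [hP'def]
      rfl
    rw [hrel] at e3
    have hχ0 : charDegree χf ≠ 0 :=
      (Defect.charDegree_dvd_card (⟨χf, hχf⟩ : IrrCharacter G)).2.ne'
    have ha' : charDegree χf = a * (charStab H θ.1).index * charDegree θ.1 := ha
    have ha0 : a ≠ 0 := by
      rintro rfl
      rw [zero_mul, zero_mul] at ha'
      exact hχ0 ha'
    have hI0 : (charStab H θ.1).index ≠ 0 := Subgroup.index_ne_zero_of_finite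
    have hθ0 : charDegree θ.1 ≠ 0 := (Defect.charDegree_dvd_card θ).2.ne'
    have hH0 : H.index ≠ 0 := Subgroup.index_ne_zero_of_finite
    have hP'0 : P'.index ≠ 0 := Subgroup.index_ne_zero_of_finite
    have hr0 : H.relIndex (charStab H θ.1) ≠ 0 := by
      intro h0
      rw [h0, zero_mul] at e2
      exact hH0 e2.symm
    have f1 : (charDegree χf).factorization p = a.factorization p
        + (charStab H θ.1).index.factorization p + (charDegree θ.1).factorization p := by
      rw [ha', Nat.factorization_mul (mul_ne_zero ha0 hI0) hθ0, Nat.factorization_mul ha0 hI0]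
      rfl
    have f2 : H.index.factorization p = (charStab H θ.1).index.factorization p := by
      rw [← e2, Nat.factorization_mul hr0 hI0]
      show (H.relIndex (charStab H θ.1)).factorization p + _ = _
      rw [Nat.factorization_eq_zero_of_not_dvd hnd, zero_add]
    have f3 : P.index.factorization p = P'.index.factorization p + H.index.factorization p := by
      rw [← e3, Nat.factorization_mul hP'0 hH0]
      rfl
    have f4 := (hht ⟨χf, hχf⟩ hχB).mp (hall ⟨χf, hχf⟩ hχB)
    have f5 : (charDegree χf).factorization p = P.index.factorization p := f4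
    omega

end Cfsg.Agent.Lib.Helper24.Reynolds
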