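import Mathlib
import Cfsg.Agent.Lib.Helper24.Reynolds
import Cfsg.Agent.Lib.Helper6.DegSq
import Cfsg.Agent.Lib.Helper6.Covering2
import Cfsg.Agent.Lib.Helper6.DefConj
import Cfsg.Agent.Lib.Helper6.MinMax

set_option autoImplicit false

namespace Cfsg.Agent.Lib.Helper24.FongCov

open Cfsg Cfsg.Agent.Lib.Helper1 Cfsg.Agent.Lib.Helper6 Cfsg.Agent.Lib.Helper24
open scoped ComplexConjugate

universe u

variable {G : Type u} [Group G] [Fintype G] {M : Ideal AlgInt}

theorem inv_coeff (N : Subgroup G) [hN : N.Normal] [Fintype N] (b : Set (IrrCharacter N))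
    (hinv : ∀ g : G, ∀ θ ∈ b, ∀ θ' : IrrCharacter N,
      (∀ n : N, θ'.1 n = θ.1 ⟨g * n * g⁻¹, hN.conj_mem n n.2 g⟩) → θ' ∈ b)
    (g : G) (n : N) :
    blockCoeff b ⟨g * n * g⁻¹, hN.conj_mem n n.2 g⟩ = blockCoeff b n := by
  have hg : g⁻¹ ∈ Subgroup.normalizer (N : Set G) := by
    rw [Subgroup.normalizer_eq_top]
    trivial
  obtain ⟨h, hh⟩ : ∃ h : Subgroup.normalizer (N : Set G), h = ⟨g⁻¹, hg⟩ := ⟨_, rfl⟩
  have himg : Brauer.cj N h '' b = b := by
    apply Brauer.image_cj_eq_of_subset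
    intro χ hχ
    refine hinv g χ hχ _ ?_
    intro m
    rw [Brauer.cj_apply]
    have e : (Brauer.conjEquiv N h).symm m = ⟨g * m * g⁻¹, hN.conj_mem m m.2 g⟩ := by
      apply Subtype.ext
      rw [Brauer.conjEquiv_symm_coe, hh]
      simp
    rw [e]
  have h1 := Brauer.blockCoeff_image_cj N h b n
  rw [himg] at h1
  have e : (Brauer.conjEquiv N h).symm n = ⟨g * n * g⁻¹, hN.conj_mem n n.2 g⟩ := by
    apply Subtype.ext
    rw [Brauer.conjEquiv_symm_coe, hh]
    simp
  rw [e] at h1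
  exact h1.symm

theorem all_in_b (hmax : M.IsMaximal) (N : Subgroup G) [hN : N.Normal] [Fintype N]
    (b : Set (IrrCharacter N)) (hb : IsPBlock M b)
    (hinv : ∀ g : G, ∀ θ ∈ b, ∀ θ' : IrrCharacter N,
      (∀ n : N, θ'.1 n = θ.1 ⟨g * n * g⁻¹, hN.conj_mem n n.2 g⟩) → θ' ∈ b)
    (B : Set (IrrCharacter G)) (hB : IsPBlock M B)
    (hcov : ∃ χ ∈ B, ∃ θ ∈ b, classInner (fun n : N => χ.1 n) θ.1 ≠ 0)
    (χ : IrrCharacter G) (hχ : χ ∈ B) (ψ : IrrCharacter N)
    (hψ : classInner (fun n : N => χ.1 n) ψ.1 ≠ 0) : ψ ∈ b := by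
  obtain ⟨χ₀, hχ₀, θ₀, hθ₀, hover⟩ := hcov
  have hcong : ∀ n : G, n ∈ N → MemLocalIdeal M
      (inducedCentralChar N ψ.1 n - inducedCentralChar N θ₀.1 n) := by
    intro n hn
    have h1 := covering_congr hmax N B hB b hb χ₀ hχ₀ θ₀ hθ₀ hover χ hχ θ₀ hθ₀ n hn
    rw [centralChar_eq_inducedCentralChar_of_over N χ ψ hψ n hn] at h1
    exact h1
  obtain ⟨g, θ', hθ', he⟩ := exists_conj_mem_block hmax N b hb θ₀ hθ₀ ψ hcong
  refine hinv g⁻¹ θ' hθ' ψ ?_
  intro n
  have h2 : θ'.1 ⟨g⁻¹ * n * g⁻¹⁻¹, hN.conj_mem n n.2 g⁻¹⟩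
      = ψ.1 ⟨g * (g⁻¹ * n * g⁻¹⁻¹) * g⁻¹, hN.conj_mem _ (hN.conj_mem n n.2 g⁻¹) g⟩ := by
    rw [he]
    rfl
  rw [h2]
  have e : (⟨g * (g⁻¹ * n * g⁻¹⁻¹) * g⁻¹, hN.conj_mem _ (hN.conj_mem n n.2 g⁻¹) g⟩ : N) = n := by
    apply Subtype.ext
    show g * (g⁻¹ * (n : G) * g⁻¹⁻¹) * g⁻¹ = n
    group
  rw [e]

theorem exists_under (N : Subgroup G) [Fintype N] (χ : IrrCharacter G) :
    ∃ ψ : IrrCharacter N, classInner (fun n : N => χ.1 n) ψ.1 ≠ 0 := by
  classical
  by_contra hcon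
  push Not at hcon
  have hcf : IsClassFunction N (fun n : N => χ.1 n) := by
    intro g h
    exact irr_isClassFunction χ (g : G) (h : G)
  have h0 := classFunction_eq_zero hcf (fun θ hθ => hcon ⟨θ, hθ⟩)
  have h1 := congrFun h0 1
  exact irr_one_ne_zero χ.2 h1

theorem defect_le {p : ℕ} [Fact p.Prime] (hM : IsPModular p M) (N : Subgroup G) [hN : N.Normal]
    [Fintype N] (b : Set (IrrCharacter N)) (hb : IsPBlock M b)
    (hinv : ∀ g : G, ∀ θ ∈ b, ∀ θ' : IrrCharacter N,
      (∀ n : N, θ'.1 n = θ.1 ⟨g * n * g⁻¹, hN.conj_mem n n.2 g⟩) → θ' ∈ b)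
    (B : Set (IrrCharacter G)) (hB : IsPBlock M B)
    (hcov : ∃ χ ∈ B, ∃ θ ∈ b, classInner (fun n : N => χ.1 n) θ.1 ≠ 0) :
    blockDefect p B ≤ blockDefect p b + N.index.factorization p := by
  have hmax := hM.2.1
  have hp := (Fact.out : p.Prime)
  obtain ⟨χ₁, hχ₁⟩ := Defect.block_nonempty hmax B hB
  have hne : ((fun χ : IrrCharacter G => (charDegree (χ : G → ℂ)).factorization p) '' B).Nonempty :=
    ⟨_, χ₁, hχ₁, rfl⟩
  obtain ⟨χ, hχ, hχe⟩ := Nat.sInf_mem hne
  have hχe' : (charDegree χ.1).factorization p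
      = sInf ((fun χ : IrrCharacter G => (charDegree (χ : G → ℂ)).factorization p) '' B) := hχe
  obtain ⟨ψ, hψ⟩ := exists_under N χ
  have hψb := all_in_b hmax N b hb hinv B hB hcov χ hχ ψ hψ
  obtain ⟨a, ha⟩ := Reynolds.clifford_deg N ψ χ hψ
  have hχpos := (Defect.charDegree_dvd_card χ).2
  have hψdvd := (Defect.charDegree_dvd_card ψ).1
  have hψpos := (Defect.charDegree_dvd_card ψ).2
  have h1 : (charDegree ψ.1).factorization p ≤ (charDegree χ.1).factorization p := by
    have hd : charDegree ψ.1 ∣ charDegree χ.1 := ⟨a * (charStab N ψ.1).index, by rw [ha]; ring⟩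
    exact (Nat.factorization_le_iff_dvd hψpos.ne' hχpos.ne').mpr hd p
  have h2 : sInf ((fun θ : IrrCharacter N => (charDegree (θ : N → ℂ)).factorization p) '' b)
      ≤ (charDegree ψ.1).factorization p := Nat.sInf_le ⟨ψ, hψb, rfl⟩
  have h3 : (charDegree ψ.1).factorization p ≤ (Nat.card N).factorization p :=
    (Nat.factorization_le_iff_dvd hψpos.ne' Nat.card_pos.ne').mpr hψdvd p
  have h4 : (Nat.card G).factorization p
      = (Nat.card N).factorization p + N.index.factorization p := by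
    rw [← Subgroup.card_mul_index N, Nat.factorization_mul Nat.card_pos.ne'
      Subgroup.index_ne_zero_of_finite]
    rfl
  show (Nat.card G).factorization p - sInf _ ≤ ((Nat.card N).factorization p - sInf _) + _
  rw [← hχe']
  omega

theorem sum_deg_inner [Fintype (IrrCharacter G)] (N : Subgroup G) [Fintype N]
    (θ : IrrCharacter N) :
    ∑ χ : IrrCharacter G, χ.1 1 * classInner (fun n : N => χ.1 n) θ.1
      = (N.index : ℂ) * θ.1 1 := by
  classical
  have hcol : ∀ g : G, ∑ χ : IrrCharacter G, χ.1 1 * χ.1 g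
      = if g = 1 then (Nat.card G : ℂ) else 0 := by
    intro g
    have h := col_orth (G := G) g 1
    have e : ∀ χ : IrrCharacter G, χ.1 g * conj (χ.1 1) = χ.1 1 * χ.1 g := by
      intro χ
      rw [CharBasic.char_one_nat (CharBasic.isCharacter_of_irr χ.2), Complex.conj_natCast]
      ring
    rw [Finset.sum_congr rfl (fun χ _ => e χ)] at h
    rw [h]
    by_cases hg : g = 1
    · subst hg
      rw [if_pos rfl, if_pos (IsConj.refl 1)]
      have e2 : Subgroup.centralizer ({1} : Set G) = ⊤ := by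
        ext y
        simp [Subgroup.mem_centralizer_iff]
      rw [e2, Subgroup.card_top]
    · rw [if_neg hg, if_neg]
      rwa [isConj_one_left]
  have hθ1 : conj (θ.1 1) = θ.1 1 := by
    rw [CharBasic.char_one_nat (CharBasic.isCharacter_of_irr θ.2), Complex.conj_natCast]
  have hN0 : (Nat.card N : ℂ) ≠ 0 := by
    exact_mod_cast Nat.card_pos.ne'
  calc ∑ χ : IrrCharacter G, χ.1 1 * classInner (fun n : N => χ.1 n) θ.1
      = (Nat.card N : ℂ)⁻¹ * ∑ n : N, conj (θ.1 n) * ∑ χ : IrrCharacter G, χ.1 1 * χ.1 (n : G) := by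
        show ∑ χ : IrrCharacter G, χ.1 1 * ((Nat.card N : ℂ)⁻¹ * ∑ n : N, χ.1 n * conj (θ.1 n)) = _
        simp_rw [Finset.mul_sum]
        rw [Finset.sum_comm]
        apply Finset.sum_congr rfl
        intro n _
        apply Finset.sum_congr rfl
        intro χ _
        ring
    _ = (Nat.card N : ℂ)⁻¹ * (conj (θ.1 1) * (Nat.card G : ℂ)) := by
        congr 1
        rw [Finset.sum_eq_single (1 : N)]
        · rw [hcol]
          rw [if_pos (by rfl)]
        · intro n _ hn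
          rw [hcol, if_neg, mul_zero]
          intro h1
          exact hn (Subtype.ext h1)
        · intro h
          exact absurd (Finset.mem_univ _) h
    _ = (N.index : ℂ) * θ.1 1 := by
        rw [hθ1, ← Subgroup.card_mul_index N]
        push_cast
        field_simp

theorem sum_sq_over [Fintype (IrrCharacter G)] (hmax : M.IsMaximal) (N : Subgroup G)
    [hN : N.Normal] [Fintype N] [Fintype (IrrCharacter N)]
    (b : Set (IrrCharacter N)) (hb : IsPBlock M b)
    (hinv : ∀ g : G, ∀ θ ∈ b, ∀ θ' : IrrCharacter N,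
      (∀ n : N, θ'.1 n = θ.1 ⟨g * n * g⁻¹, hN.conj_mem n n.2 g⟩) → θ' ∈ b) :
    ∑ᶠ χ ∈ {χ : IrrCharacter G | ∃ θ ∈ b, classInner (fun n : N => χ.1 n) θ.1 ≠ 0},
        charDegree χ.1 ^ 2
      = N.index * ∑ᶠ θ ∈ b, charDegree θ.1 ^ 2 := by
  classical
  obtain ⟨S, hS⟩ : ∃ S : Set (IrrCharacter G),
      S = {χ : IrrCharacter G | ∃ θ ∈ b, classInner (fun n : N => χ.1 n) θ.1 ≠ 0} := ⟨_, rfl⟩
  rw [← hS]
  rw [finsum_mem_eq_finite_toFinset_sum _ (Set.toFinite S),
    finsum_mem_eq_finite_toFinset_sum _ (Set.toFinite b)]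
  have hb' : ∀ χ : IrrCharacter G, χ ∈ S →
      ∑ θ ∈ (Set.toFinite b).toFinset, classInner (fun n : N => χ.1 n) θ.1 * θ.1 1 = χ.1 1 := by
    intro χ hχ
    have hcf : IsClassFunction N (fun n : N => χ.1 n) := by
      intro g h
      exact irr_isClassFunction χ (g : G) (h : G)
    have hexp := congrFun (classFunction_expansion hcf) 1
    have hχ1 : χ.1 1 = ∑ θ : IrrCharacter N, classInner (fun n : N => χ.1 n) θ.1 * θ.1 1 := by
      have h3 : χ.1 1 = (∑ θ : IrrCharacter N, classInner (fun n : N => χ.1 n) θ.1 • θ.1) 1 :=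
        hexp
      rw [h3, Finset.sum_apply]
      apply Finset.sum_congr rfl
      intro θ _
      rfl
    rw [hχ1]
    apply Finset.sum_subset (Finset.subset_univ _)
    intro θ _ hθ
    have hθb : θ ∉ b := fun h => hθ ((Set.Finite.mem_toFinset _).mpr h)
    have hz : classInner (fun n : N => χ.1 n) θ.1 = 0 := by
      by_contra hne
      apply hθb
      rw [hS] at hχ
      exact all_in_b hmax N b hb hinv (blockOf M χ.1) ⟨χ, rfl⟩
        ⟨χ, mem_blockOf_self hmax χ, hχ⟩ χ (mem_blockOf_self hmax χ) θ hne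
    rw [hz, zero_mul]
  have hc' : ∀ χ : IrrCharacter G, χ ∉ S →
      ∑ θ ∈ (Set.toFinite b).toFinset, classInner (fun n : N => χ.1 n) θ.1 * θ.1 1 = 0 := by
    intro χ hχ
    apply Finset.sum_eq_zero
    intro θ hθ
    have hθb : θ ∈ b := (Set.Finite.mem_toFinset _).mp hθ
    have hz : classInner (fun n : N => χ.1 n) θ.1 = 0 := by
      by_contra hne
      apply hχ
      rw [hS]
      exact ⟨θ, hθb, hne⟩
    rw [hz, zero_mul]
  apply Nat.cast_injective (R := ℂ)
  push_cast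
  calc ∑ χ ∈ (Set.toFinite S).toFinset, ((charDegree χ.1 : ℕ) : ℂ) ^ 2
      = ∑ χ ∈ (Set.toFinite S).toFinset, χ.1 1 *
          ∑ θ ∈ (Set.toFinite b).toFinset, classInner (fun n : N => χ.1 n) θ.1 * θ.1 1 := by
        apply Finset.sum_congr rfl
        intro χ hχ
        rw [hb' χ ((Set.Finite.mem_toFinset _).mp hχ),
          CharBasic.char_one_nat (CharBasic.isCharacter_of_irr χ.2)]
        ring
    _ = ∑ χ : IrrCharacter G, χ.1 1 *
          ∑ θ ∈ (Set.toFinite b).toFinset, classInner (fun n : N => χ.1 n) θ.1 * θ.1 1 := by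
        apply Finset.sum_subset (Finset.subset_univ _)
        intro χ _ hχ
        have hχS : χ ∉ S := fun h => hχ ((Set.Finite.mem_toFinset _).mpr h)
        rw [hc' χ hχS, mul_zero]
    _ = ∑ θ ∈ (Set.toFinite b).toFinset, θ.1 1 *
          ∑ χ : IrrCharacter G, χ.1 1 * classInner (fun n : N => χ.1 n) θ.1 := by
        simp_rw [Finset.mul_sum]
        rw [Finset.sum_comm]
        apply Finset.sum_congr rfl
        intro θ _
        apply Finset.sum_congr rfl
        intro χ _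
        ring
    _ = ∑ θ ∈ (Set.toFinite b).toFinset, θ.1 1 * ((N.index : ℂ) * θ.1 1) := by
        apply Finset.sum_congr rfl
        intro θ _
        rw [sum_deg_inner N θ]
    _ = (N.index : ℂ) * ∑ θ ∈ (Set.toFinite b).toFinset, ((charDegree θ.1 : ℕ) : ℂ) ^ 2 := by
        rw [Finset.mul_sum]
        apply Finset.sum_congr rfl
        intro θ _
        rw [CharBasic.char_one_nat (CharBasic.isCharacter_of_irr θ.2)]
        ring

theorem dvd_sum_blocks (hmax : M.IsMaximal) (S : Set (IrrCharacter G))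
    (hS : ∀ χ ∈ S, blockOf M χ.1 ⊆ S) (f : IrrCharacter G → ℕ) (k : ℕ)
    (hk : ∀ χ ∈ S, k ∣ ∑ᶠ ψ ∈ blockOf M χ.1, f ψ) : k ∣ ∑ᶠ χ ∈ S, f χ := by
  classical
  haveI hirr : Fintype (IrrCharacter G) := irrFintype
  rw [finsum_mem_eq_finite_toFinset_sum f (Set.toFinite S)]
  rw [← Finset.sum_fiberwise_of_maps_to (g := fun χ : IrrCharacter G => blockOf M χ.1)
    (t := (Set.toFinite S).toFinset.image (fun χ : IrrCharacter G => blockOf M χ.1))
    (fun x hx => Finset.mem_image_of_mem _ hx)]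
  apply Finset.dvd_sum
  intro y hy
  obtain ⟨χ₁, hχ₁, rfl⟩ := Finset.mem_image.mp hy
  have hχ₁S : χ₁ ∈ S := (Set.Finite.mem_toFinset _).mp hχ₁
  have h := hk χ₁ hχ₁S
  rw [finsum_mem_eq_finite_toFinset_sum f (Set.toFinite (blockOf M χ₁.1))] at h
  have e : (Set.toFinite S).toFinset.filter
      (fun x : IrrCharacter G => blockOf M x.1 = blockOf M χ₁.1)
      = (Set.toFinite (blockOf M χ₁.1)).toFinset := by
    ext x
    simp only [Finset.mem_filter, Set.Finite.mem_toFinset]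
    constructor
    · rintro ⟨_, hx⟩
      rw [← hx]
      exact mem_blockOf_self hmax x
    · intro hx
      refine ⟨hS χ₁ hχ₁S hx, ?_⟩
      exact (Defect.block_eq_blockOf hmax _ ⟨χ₁, rfl⟩ hx).symm
  rw [e]
  exact h

theorem exists_big {p : ℕ} [Fact p.Prime] (hM : IsPModular p M) (N : Subgroup G)
    [hN : N.Normal] [Fintype N] (b : Set (IrrCharacter N)) (hb : IsPBlock M b)
    (hinv : ∀ g : G, ∀ θ ∈ b, ∀ θ' : IrrCharacter N,
      (∀ n : N, θ'.1 n = θ.1 ⟨g * n * g⁻¹, hN.conj_mem n n.2 g⟩) → θ' ∈ b) :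
    ∃ B : Set (IrrCharacter G), IsPBlock M B ∧
      (∃ χ ∈ B, ∃ θ ∈ b, classInner (fun n : N => χ.1 n) θ.1 ≠ 0) ∧
      blockDefect p b + N.index.factorization p ≤ blockDefect p B := by
  classical
  have hmax := hM.2.1
  have hp := (Fact.out : p.Prime)
  haveI hirrG : Fintype (IrrCharacter G) := irrFintype
  haveI hirrN : Fintype (IrrCharacter N) := irrFintype
  by_contra hcon
  push Not at hcon
  obtain ⟨S, hS⟩ : ∃ S : Set (IrrCharacter G),
      S = {χ : IrrCharacter G | ∃ θ ∈ b, classInner (fun n : N => χ.1 n) θ.1 ≠ 0} := ⟨_, rfl⟩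
  have hclosed : ∀ χ ∈ S, blockOf M χ.1 ⊆ S := by
    intro χ hχ ψ hψ
    rw [hS] at hχ ⊢
    obtain ⟨ψ', hψ'⟩ := exists_under N ψ
    exact ⟨ψ', all_in_b hmax N b hb hinv (blockOf M χ.1) ⟨χ, rfl⟩
      ⟨χ, mem_blockOf_self hmax χ, hχ⟩ ψ hψ ψ' hψ', hψ'⟩
  have hid := sum_sq_over hmax N b hb hinv
  rw [← hS] at hid
  have hdegb := factorization_sum_degree_sq hM b hb
  obtain ⟨θ₁, hθ₁⟩ := Defect.block_nonempty hmax b hb
  have hsumb_pos : 0 < ∑ᶠ θ ∈ b, charDegree θ.1 ^ 2 := by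
    rw [finsum_mem_eq_finite_toFinset_sum _ (Set.toFinite b)]
    apply Finset.sum_pos'
    · intro i _
      exact Nat.zero_le _
    · exact ⟨θ₁, (Set.Finite.mem_toFinset _).mpr hθ₁,
        pow_pos (Defect.charDegree_dvd_card θ₁).2 2⟩
  have hval : (∑ᶠ χ ∈ S, charDegree χ.1 ^ 2).factorization p
      = N.index.factorization p + (2 * (Nat.card N).factorization p - blockDefect p b) := by
    rw [hid, Nat.factorization_mul Subgroup.index_ne_zero_of_finite hsumb_pos.ne',
      Finsupp.add_apply, hdegb]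
  have hSpos : ∑ᶠ χ ∈ S, charDegree χ.1 ^ 2 ≠ 0 := by
    rw [hid]
    exact Nat.mul_ne_zero Subgroup.index_ne_zero_of_finite hsumb_pos.ne'
  have hdb : blockDefect p b ≤ (Nat.card N).factorization p := Nat.sub_le _ _
  have h4 : (Nat.card G).factorization p
      = (Nat.card N).factorization p + N.index.factorization p := by
    rw [← Subgroup.card_mul_index N, Nat.factorization_mul Nat.card_pos.ne'
      Subgroup.index_ne_zero_of_finite]
    rfl
  have hdvd : p ^ ((∑ᶠ χ ∈ S, charDegree χ.1 ^ 2).factorization p + 1)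
      ∣ ∑ᶠ χ ∈ S, charDegree χ.1 ^ 2 := by
    apply dvd_sum_blocks hmax S hclosed
    intro χ hχ
    have hBd := factorization_sum_degree_sq hM (blockOf M χ.1) ⟨χ, rfl⟩
    have hχ' : ∃ θ ∈ b, classInner (fun n : N => χ.1 n) θ.1 ≠ 0 := by
      rw [hS] at hχ
      exact hχ
    have hlt := hcon (blockOf M χ.1) ⟨χ, rfl⟩ ⟨χ, mem_blockOf_self hmax χ, hχ'⟩
    have hdB : blockDefect p (blockOf M χ.1) ≤ (Nat.card G).factorization p := Nat.sub_le _ _
    have hle : (∑ᶠ χ ∈ S, charDegree χ.1 ^ 2).factorization p + 1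
        ≤ (∑ᶠ ψ ∈ blockOf M χ.1, charDegree ψ.1 ^ 2).factorization p := by
      rw [hval, hBd]
      omega
    exact (pow_dvd_pow p hle).trans (Nat.ordProj_dvd _ p)
  exact Nat.pow_succ_factorization_not_dvd hSpos hp hdvd

theorem exists_class {p : ℕ} [Fact p.Prime] (hM : IsPModular p M) (N : Subgroup G)
    [hN : N.Normal] [Fintype N] (b : Set (IrrCharacter N)) (hb : IsPBlock M b)
    (hinv : ∀ g : G, ∀ θ ∈ b, ∀ θ' : IrrCharacter N,
      (∀ n : N, θ'.1 n = θ.1 ⟨g * n * g⁻¹, hN.conj_mem n n.2 g⟩) → θ' ∈ b)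
    (B : Set (IrrCharacter G)) (hB : IsPBlock M B)
    (hcov : ∃ χ ∈ B, ∃ θ ∈ b, classInner (fun n : N => χ.1 n) θ.1 ≠ 0)
    (χ : IrrCharacter G) (hχ : χ ∈ B) :
    ∃ x : G, ∃ hx : x ∈ N, ¬ MemLocalIdeal M (blockCoeff b ⟨x, hx⟩) ∧
      ¬ MemLocalIdeal M (centralChar χ.1 x) := by
  classical
  have hmax := hM.2.1
  haveI hirrN : Fintype (IrrCharacter N) := irrFintype
  obtain ⟨θ, hover⟩ := exists_under N χ
  have hθ := all_in_b hmax N b hb hinv B hB hcov χ hχ θ hover
  obtain ⟨F, hF⟩ : ∃ F : G → ℂ, F = fun g => if h : g ∈ N then blockCoeff b ⟨g, h⟩ else 0 :=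
    ⟨_, rfl⟩
  have hFin : ∀ (g : G) (h : g ∈ N), F g = blockCoeff b ⟨g, h⟩ := by
    intro g h
    rw [hF]
    exact dif_pos h
  have hFout : ∀ g : G, g ∉ N → F g = 0 := by
    intro g h
    rw [hF]
    exact dif_neg h
  have hFcf : IsClassFunction G F := by
    intro g h
    by_cases hg : g ∈ N
    · rw [hFin g hg, hFin _ (hN.conj_mem g hg h)]
      exact inv_coeff N b hinv h ⟨g, hg⟩
    · have hg' : h * g * h⁻¹ ∉ N := by
        intro hc
        apply hg
        have h5 := hN.conj_mem _ hc h⁻¹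
        have e : h⁻¹ * (h * g * h⁻¹) * h⁻¹⁻¹ = g := by group
        rwa [e] at h5
      rw [hFout g hg, hFout _ hg']
  have hFS : SVal M F := by
    intro g
    by_cases hg : g ∈ N
    · rw [hFin g hg]
      exact osima' hmax b hb _
    · rw [hFout g hg]
      exact memLocalRing_zero hmax
  have hres : (fun h : N => F h) = blockCoeff b := by
    funext h
    exact hFin h h.2
  have hom : omega χ.1 F = 1 := by
    have h1 := omega_res_sub_eq N θ.1 (irr_isClassFunction χ) hFcf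
    rw [hres, omega_blockCoeff b θ, if_pos hθ] at h1
    have h2 : ∑ C : ConjClasses G, F (crep C) *
        (inducedCentralChar N θ.1 (crep C) - centralChar χ.1 (crep C)) = 0 := by
      apply Finset.sum_eq_zero
      intro C _
      by_cases hc : crep C ∈ N
      · rw [centralChar_eq_inducedCentralChar_of_over N χ θ hover _ hc, sub_self, mul_zero]
      · rw [hFout _ hc, zero_mul]
    rw [h2] at h1
    linear_combination -h1
  obtain ⟨g, hg1, hg2⟩ := exists_of_omega_not_mem hmax χ.2 hFcf hFS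
    (by rw [hom]; exact not_memLocalIdeal_one hmax)
  have hgN : g ∈ N := by
    by_contra hc
    rw [hFout g hc] at hg1
    exact hg1 (memLocalIdeal_zero hmax)
  refine ⟨g, hgN, ?_, hg2⟩
  rw [← hFin g hgN]
  exact hg1

theorem exists_centralizer_ge {p : ℕ} [Fact p.Prime] (hM : IsPModular p M)
    (B : Set (IrrCharacter G)) (hB : IsPBlock M B) (χ : IrrCharacter G) (hχ : χ ∈ B) (x : G)
    (hx : ¬ MemLocalIdeal M (centralChar χ.1 x)) (P : Subgroup G)
    (hP : IsDefectGroup p M B P) :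
    ∃ z : G, P ≤ Subgroup.centralizer ({z * x * z⁻¹} : Set G) := by
  classical
  obtain ⟨Q⟩ : Nonempty (Sylow p (Subgroup.centralizer ({x} : Set G))) := inferInstance
  have hI := blockCoeff_inDefIdeal hM _ B hB (isClassFunction_cind x) (sVal_cind hM.2.1 x)
    (inDefIdeal_cind hM.2.1 x Q) χ hχ (by rw [omega_cind (irr_isClassFunction χ)]; exact hx)
  obtain ⟨g, hg, P₀, rfl⟩ := hP
  have hsub : SubConj p ((Q : Subgroup (Subgroup.centralizer ({x} : Set G))).map
      (Subgroup.centralizer ({x} : Set G)).subtype) g := by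
    by_contra hcon
    exact hg.2.1 (hI g hcon)
  have hPp : IsPGroup p ((P₀ : Subgroup (Subgroup.centralizer ({g} : Set G))).map
      (Subgroup.centralizer ({g} : Set G)).subtype) := P₀.isPGroup'.map _
  have hPle : (P₀ : Subgroup (Subgroup.centralizer ({g} : Set G))).map
      (Subgroup.centralizer ({g} : Set G)).subtype ≤ Subgroup.centralizer ({g} : Set G) := by
    intro y hy
    obtain ⟨w, _, rfl⟩ := Subgroup.mem_map.mp hy
    exact w.2
  obtain ⟨z, hz⟩ := hsub _ hPp hPle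
  refine ⟨z, ?_⟩
  intro y hy
  obtain ⟨w, hw, rfl⟩ := Subgroup.mem_map.mp (hz hy)
  obtain ⟨v, _, rfl⟩ := Subgroup.mem_map.mp hw
  rw [Subgroup.mem_centralizer_iff]
  intro u hu
  rw [Set.mem_singleton_iff] at hu
  subst hu
  have hv := Subgroup.mem_centralizer_iff.mp v.2 x (Set.mem_singleton x)
  show z * x * z⁻¹ * (z * (v : G) * z⁻¹) = z * (v : G) * z⁻¹ * (z * x * z⁻¹)
  calc z * x * z⁻¹ * (z * (v : G) * z⁻¹) = z * (x * (v : G)) * z⁻¹ := by group
    _ = z * ((v : G) * x) * z⁻¹ := by rw [hv]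
    _ = z * (v : G) * z⁻¹ * (z * x * z⁻¹) := by group

theorem fong {p : ℕ} [Fact p.Prime] (hM : IsPModular p M) (N : Subgroup G) [hN : N.Normal]
    [Fintype N] (b : Set (IrrCharacter N)) (hb : IsPBlock M b)
    (hinv : ∀ g : G, ∀ θ ∈ b, ∀ θ' : IrrCharacter N,
      (∀ n : N, θ'.1 n = θ.1 ⟨g * n * g⁻¹, hN.conj_mem n n.2 g⟩) → θ' ∈ b)
    (B : Set (IrrCharacter G)) (hB : IsPBlock M B)
    (hcov : ∃ χ ∈ B, ∃ θ ∈ b, classInner (fun n : N => χ.1 n) θ.1 ≠ 0)
    (hmaxd : ∀ B' : Set (IrrCharacter G), IsPBlock M B' →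
      (∃ χ ∈ B', ∃ θ ∈ b, classInner (fun n : N => χ.1 n) θ.1 ≠ 0) →
      blockDefect p B' ≤ blockDefect p B)
    (P : Subgroup G) (hP : IsDefectGroup p M B P) :
    ¬ p ∣ (P ⊔ N).index ∧ IsDefectGroup p M b ((P ⊓ N).subgroupOf N) ∧
      blockDefect p B = blockDefect p b + N.index.factorization p := by
  classical
  have hmax := hM.2.1
  have hp := (Fact.out : p.Prime)
  have hd : blockDefect p B = blockDefect p b + N.index.factorization p := by
    apply le_antisymm (defect_le hM N b hb hinv B hB hcov)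
    obtain ⟨B', hB', hcov', hle⟩ := exists_big hM N b hb hinv
    exact hle.trans (hmaxd B' hB' hcov')
  obtain ⟨χ, hχ⟩ := Defect.block_nonempty hmax B hB
  obtain ⟨x, hxN, hx1, hx2⟩ := exists_class hM N b hb hinv B hB hcov χ hχ
  obtain ⟨z, hz⟩ := exists_centralizer_ge hM B hB χ hχ x hx2 P hP
  have hx'N : z * x * z⁻¹ ∈ N := hN.conj_mem x hxN z
  obtain ⟨y, hy⟩ : ∃ y : N, y = ⟨z * x * z⁻¹, hx'N⟩ := ⟨_, rfl⟩
  have hycoef : ¬ MemLocalIdeal M (blockCoeff b y) := by
    rw [hy]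
    have h1 := inv_coeff N b hinv z ⟨x, hxN⟩
    rw [h1]
    exact hx1
  have hPcard := DefectGroup.card_defectGroup hM B hB P hP
  have hPp : IsPGroup p P := IsPGroup.of_card hPcard
  obtain ⟨S, hSdef⟩ : ∃ S : Subgroup N, S = (P ⊓ N).subgroupOf N := ⟨_, rfl⟩
  have hSp : IsPGroup p S := by
    rw [hSdef]
    exact (hPp.to_le inf_le_left).comap_subtype
  have hSy : S ≤ Subgroup.centralizer ({y} : Set N) := by
    rw [hSdef]
    intro s hs
    rw [Subgroup.mem_centralizer_iff]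
    intro u hu
    rw [Set.mem_singleton_iff] at hu
    subst hu
    have hsP : (s : G) ∈ P := (Subgroup.mem_subgroupOf.mp hs).1
    have h1 := Subgroup.mem_centralizer_iff.mp (hz hsP) (z * x * z⁻¹) (Set.mem_singleton _)
    apply Subtype.ext
    rw [hy]
    exact h1
  obtain ⟨D, hD, hSD⟩ := Brauer.exists_defectGroup_ge hM b hb S hSp y hycoef hSy
  have hDcard := DefectGroup.card_defectGroup hM b hb D hD
  have hScard : Nat.card S = Nat.card (P ⊓ N : Subgroup G) := by
    rw [hSdef]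
    exact Nat.card_congr (Subgroup.subgroupOfEquivOfLe inf_le_right).toEquiv
  have hrel : Nat.card (P ⊓ N : Subgroup G) * N.relIndex P = Nat.card P := by
    have h1 := Subgroup.relIndex_mul_index (inf_le_left : P ⊓ N ≤ P)
    rw [Subgroup.inf_relIndex_left] at h1
    have h2 := Subgroup.card_mul_index (P ⊓ N)
    have h3 := Subgroup.card_mul_index P
    have hPi : P.index ≠ 0 := Subgroup.index_ne_zero_of_finite
    apply Nat.eq_of_mul_eq_mul_right (Nat.pos_of_ne_zero hPi)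
    rw [h3, mul_assoc, h1, h2]
  have hreldvd : N.relIndex P ∣ N.index := Subgroup.relIndex_dvd_index_of_normal N P
  have hrelp : N.relIndex P ∣ p ^ blockDefect p B := by
    rw [← hPcard, ← hrel]
    exact dvd_mul_left _ _
  obtain ⟨j, hj, hrelj⟩ := (Nat.dvd_prime_pow hp).mp hrelp
  have hNi : N.index ≠ 0 := Subgroup.index_ne_zero_of_finite
  have hjle : j ≤ N.index.factorization p := by
    rw [hrelj] at hreldvd
    exact (hp.pow_dvd_iff_le_factorization hNi).mp hreldvd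
  have hcard2 : Nat.card (P ⊓ N : Subgroup G) = p ^ (blockDefect p B - j) := by
    have h1 : Nat.card (P ⊓ N : Subgroup G) * p ^ j = p ^ (blockDefect p B - j) * p ^ j := by
      rw [← pow_add, Nat.sub_add_cancel hj, ← hrelj, hrel, hPcard]
    exact Nat.eq_of_mul_eq_mul_right (pow_pos hp.pos j) h1
  have hSD' : S = D := by
    apply Subgroup.eq_of_le_of_card_ge hSD
    rw [hDcard, hScard, hcard2]
    apply Nat.pow_le_pow_right hp.pos
    omega
  have hjeq : j = N.index.factorization p := by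
    have h1 : p ^ (blockDefect p B - j) = p ^ blockDefect p b := by
      rw [← hcard2, ← hScard, hSD', hDcard]
    have h2 := Nat.pow_right_injective hp.two_le h1
    omega
  refine ⟨?_, ?_, hd⟩
  · intro hdvd
    have h1 := Subgroup.relIndex_mul_index (le_sup_right : N ≤ P ⊔ N)
    rw [Subgroup.relIndex_sup_right, hrelj, hjeq] at h1
    obtain ⟨c, hc⟩ := hdvd
    have h2 : p ^ (N.index.factorization p + 1) ∣ N.index := by
      refine ⟨c, ?_⟩
      calc N.index = p ^ N.index.factorization p * (P ⊔ N).index := h1.symm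
        _ = p ^ (N.index.factorization p + 1) * c := by
            rw [hc]
            ring
    exact Nat.pow_succ_factorization_not_dvd hNi hp h2
  · rw [← hSdef, hSD']
    exact hD

end Cfsg.Agent.Lib.Helper24.FongCov
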