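import Mathlib
import Cfsg.Agent.Lib.Helper24.FongCov
import Cfsg.Agent.Lib.Helper6.Regular

set_option autoImplicit false

namespace Cfsg.Agent.Lib.Helper24.FongCov

open Cfsg Cfsg.Agent.Lib.Helper1 Cfsg.Agent.Lib.Helper6 Cfsg.Agent.Lib.Helper24
open scoped ComplexConjugate

universe u

variable {G : Type u} [Group G] [Fintype G] {M : Ideal AlgInt}

theorem hinv_of_stab (N : Subgroup G) [hN : N.Normal] [Fintype N] (c : Set (IrrCharacter N))
    (hst : ∀ x : G, StabilizesBlock N c x) :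
    ∀ g : G, ∀ θ ∈ c, ∀ θ' : IrrCharacter N,
      (∀ n : N, θ'.1 n = θ.1 ⟨g * n * g⁻¹, hN.conj_mem n n.2 g⟩) → θ' ∈ c := by
  intro g θ hθ θ' h
  obtain ⟨hx, hcj⟩ := (Brauer.stabilizesBlock_iff N c g⁻¹).mp (hst g⁻¹)
  have e : θ' = Brauer.cj N ⟨g⁻¹, hx⟩ θ := by
    apply Subtype.ext
    funext n
    rw [h n, Brauer.cj_apply]
    have e2 : (Brauer.conjEquiv N ⟨g⁻¹, hx⟩).symm n = ⟨g * n * g⁻¹, hN.conj_mem n n.2 g⟩ := by
      apply Subtype.ext
      rw [Brauer.conjEquiv_symm_coe]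
      simp
    rw [e2]
  rw [e]
  exact hcj θ hθ

theorem isClassFunction_ext (N : Subgroup G) [hN : N.Normal] [Fintype N]
    (c : Set (IrrCharacter N))
    (hinv : ∀ g : G, ∀ θ ∈ c, ∀ θ' : IrrCharacter N,
      (∀ n : N, θ'.1 n = θ.1 ⟨g * n * g⁻¹, hN.conj_mem n n.2 g⟩) → θ' ∈ c) :
    IsClassFunction G (Brauer.ext N (blockCoeff c)) := by
  intro g h
  by_cases hg : g ∈ N
  · rw [Brauer.ext_of_mem N _ hg, Brauer.ext_of_mem N _ (hN.conj_mem g hg h)]
    exact inv_coeff N c hinv h ⟨g, hg⟩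
  · have hg' : h * g * h⁻¹ ∉ N := by
      intro hc
      apply hg
      have h5 := hN.conj_mem _ hc h⁻¹
      have e : h⁻¹ * (h * g * h⁻¹) * h⁻¹⁻¹ = g := by group
      rwa [e] at h5
    rw [Brauer.ext_of_not_mem N _ hg, Brauer.ext_of_not_mem N _ hg']

theorem omega_ext_eq (N : Subgroup G) [hN : N.Normal] [Fintype N]
    [Fintype (IrrCharacter N)] (c : Set (IrrCharacter N))
    (hinv : ∀ g : G, ∀ θ ∈ c, ∀ θ' : IrrCharacter N,
      (∀ n : N, θ'.1 n = θ.1 ⟨g * n * g⁻¹, hN.conj_mem n n.2 g⟩) → θ' ∈ c)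
    (χ : IrrCharacter G) (θ : IrrCharacter N)
    (hover : classInner (fun n : N => χ.1 n) θ.1 ≠ 0) :
    omega χ.1 (Brauer.ext N (blockCoeff c)) = omega θ.1 (blockCoeff c) := by
  classical
  have hFcf := isClassFunction_ext N c hinv
  have h1 := omega_res_sub_eq N θ.1 (irr_isClassFunction χ) hFcf
  have hres : (fun h : N => Brauer.ext N (blockCoeff c) h) = blockCoeff c := by
    funext h
    exact Brauer.ext_coe N _ h
  rw [hres] at h1
  have h2 : ∑ C : ConjClasses G, Brauer.ext N (blockCoeff c) (crep C) *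
      (inducedCentralChar N θ.1 (crep C) - centralChar χ.1 (crep C)) = 0 := by
    apply Finset.sum_eq_zero
    intro C _
    by_cases hc : crep C ∈ N
    · rw [centralChar_eq_inducedCentralChar_of_over N χ θ hover _ hc, sub_self, mul_zero]
    · rw [Brauer.ext_of_not_mem N _ hc, zero_mul]
  rw [h2] at h1
  linear_combination -h1

theorem single_block {p : ℕ} [Fact p.Prime] (hM : IsPModular p M) (N : Subgroup G)
    [hN : N.Normal] [Fintype N] {k : ℕ} (hk : N.index = p ^ k)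
    (c : Set (IrrCharacter N)) (hc : IsPBlock M c)
    (hinv : ∀ g : G, ∀ θ ∈ c, ∀ θ' : IrrCharacter N,
      (∀ n : N, θ'.1 n = θ.1 ⟨g * n * g⁻¹, hN.conj_mem n n.2 g⟩) → θ' ∈ c)
    (χ₀ : IrrCharacter G)
    (hχ₀ : ∃ θ ∈ c, classInner (fun n : N => χ₀.1 n) θ.1 ≠ 0) :
    {χ : IrrCharacter G | ∃ θ ∈ c, classInner (fun n : N => χ.1 n) θ.1 ≠ 0}
      = blockOf M χ₀.1 := by
  have hmax := hM.2.1
  have hp := (Fact.out : p.Prime)
  obtain ⟨θ₀, hθ₀, hover₀⟩ := hχ₀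
  ext χ
  constructor
  · rintro ⟨θ₁, hθ₁, hover₁⟩
    show SameBlock M χ₀.1 χ.1
    apply sameBlock_of_regular hM
    intro g hg
    have hgN := mem_of_regular_of_index_pow hp N hk hg
    have h1 := covering_congr hmax N (blockOf M χ₀.1) ⟨χ₀, rfl⟩ c hc χ₀
      (mem_blockOf_self hmax χ₀) θ₀ hθ₀ hover₀ χ₀ (mem_blockOf_self hmax χ₀) θ₀ hθ₀ g hgN
    have h2 := covering_congr hmax N (blockOf M χ.1) ⟨χ, rfl⟩ c hc χ
      (mem_blockOf_self hmax χ) θ₁ hθ₁ hover₁ χ (mem_blockOf_self hmax χ) θ₀ hθ₀ g hgN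
    have h3 := MemLocalIdeal.sub hmax h1 h2
    have e : centralChar χ₀.1 g - inducedCentralChar N θ₀.1 g
        - (centralChar χ.1 g - inducedCentralChar N θ₀.1 g)
        = centralChar χ₀.1 g - centralChar χ.1 g := by ring
    rw [e] at h3
    exact h3
  · intro hχ
    obtain ⟨ψ', hψ'⟩ := exists_under N χ
    exact ⟨ψ', all_in_b hmax N c hc hinv (blockOf M χ₀.1) ⟨χ₀, rfl⟩
      ⟨χ₀, mem_blockOf_self hmax χ₀, θ₀, hθ₀, hover₀⟩ χ hχ ψ' hψ', hψ'⟩

theorem pquot {p : ℕ} [Fact p.Prime] (hM : IsPModular p M) (N : Subgroup G)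
    [hN : N.Normal] [Fintype N] (hN' : ∃ k : ℕ, N.index = p ^ k)
    (c : Set (IrrCharacter N)) (hc : IsPBlock M c)
    (hst : ∀ x : G, StabilizesBlock N c x) :
    (∃ B : Set (IrrCharacter G), IsPBlock M B ∧
      ∀ g : G, blockCoeff B g = subgroupBlockCoeff N c g) ∧
    ∀ B : Set (IrrCharacter G), IsPBlock M B →
      (∀ g : G, blockCoeff B g = subgroupBlockCoeff N c g) →
      ∀ P : Subgroup G, IsDefectGroup p M B P →
        N ⊔ P = ⊤ ∧ IsDefectGroup p M c ((P ⊓ N).subgroupOf N) := by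
  classical
  have hmax := hM.2.1
  have hp := (Fact.out : p.Prime)
  haveI hirrG : Fintype (IrrCharacter G) := irrFintype
  haveI hirrN : Fintype (IrrCharacter N) := irrFintype
  obtain ⟨k, hk⟩ := hN'
  have hinv := hinv_of_stab N c hst
  obtain ⟨θ₀, hθ₀⟩ := Defect.block_nonempty hmax c hc
  obtain ⟨χ₀, hover₀⟩ := exists_irr_over_sub N θ₀
  obtain ⟨S, hS⟩ : ∃ S : Set (IrrCharacter G),
      S = {χ : IrrCharacter G | ∃ θ ∈ c, classInner (fun n : N => χ.1 n) θ.1 ≠ 0} := ⟨_, rfl⟩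
  have hχ₀S : χ₀ ∈ S := by
    rw [hS]
    exact ⟨θ₀, hθ₀, hover₀⟩
  have hSb : S = blockOf M χ₀.1 := by
    rw [hS]
    exact single_block hM N hk c hc hinv χ₀ ⟨θ₀, hθ₀, hover₀⟩
  have hSblock : IsPBlock M S := ⟨χ₀, hSb⟩
  have hcovS : ∃ χ ∈ S, ∃ θ ∈ c, classInner (fun n : N => χ.1 n) θ.1 ≠ 0 :=
    ⟨χ₀, hχ₀S, θ₀, hθ₀, hover₀⟩
  have hcoef : blockCoeff S = Brauer.ext N (blockCoeff c) := by
    apply eq_of_omega_eq (isClassFunction_blockCoeff S) (isClassFunction_ext N c hinv)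
    intro ψ
    rw [omega_blockCoeff S ψ]
    obtain ⟨θ', hθ'⟩ := exists_under N ψ
    rw [omega_ext_eq N c hinv ψ θ' hθ', omega_blockCoeff c θ']
    by_cases hψ : ψ ∈ S
    · have hθ'c : θ' ∈ c := all_in_b hmax N c hc hinv S hSblock hcovS ψ hψ θ' hθ'
      rw [if_pos hψ, if_pos hθ'c]
    · have hθ'c : θ' ∉ c := fun h => hψ (by rw [hS]; exact ⟨θ', h, hθ'⟩)
      rw [if_neg hψ, if_neg hθ'c]
  refine ⟨⟨S, hSblock, fun g => congrFun hcoef g⟩, ?_⟩
  intro B hB hBc P hP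
  have hBS : B = S := by
    have h1 : blockCoeff B = blockCoeff S := by
      funext g
      rw [hBc g, hcoef]
      rfl
    ext ψ
    have h2 := omega_blockCoeff B ψ
    rw [h1, omega_blockCoeff S ψ] at h2
    constructor
    · intro hψB
      by_contra hψS
      rw [if_neg hψS, if_pos hψB] at h2
      exact zero_ne_one h2
    · intro hψS
      by_contra hψB
      rw [if_pos hψS, if_neg hψB] at h2
      exact one_ne_zero h2
  have hcovB : ∃ χ ∈ B, ∃ θ ∈ c, classInner (fun n : N => χ.1 n) θ.1 ≠ 0 := by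
    rw [hBS]
    exact hcovS
  have hmaxd : ∀ B' : Set (IrrCharacter G), IsPBlock M B' →
      (∃ χ ∈ B', ∃ θ ∈ c, classInner (fun n : N => χ.1 n) θ.1 ≠ 0) →
      blockDefect p B' ≤ blockDefect p B := by
    rintro B' hB' ⟨χ', hχ', θ', hθ', hov'⟩
    have h1 : χ' ∈ S := by
      rw [hS]
      exact ⟨θ', hθ', hov'⟩
    have h2 : B' = blockOf M χ'.1 := Defect.block_eq_blockOf hmax B' hB' hχ'
    have h3 : S = blockOf M χ'.1 := Defect.block_eq_blockOf hmax S hSblock h1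
    rw [hBS, h2, ← h3]
  obtain ⟨h1, h2, _⟩ := fong hM N c hc hinv B hB hcovB hmaxd P hP
  refine ⟨?_, h2⟩
  have hdvd : (P ⊔ N).index ∣ N.index := Subgroup.index_dvd_of_le le_sup_right
  rw [hk] at hdvd
  obtain ⟨j, _, hj⟩ := (Nat.dvd_prime_pow hp).mp hdvd
  have hj0 : j = 0 := by
    by_contra hne
    apply h1
    rw [hj]
    exact dvd_pow_self p hne
  rw [hj0, pow_zero] at hj
  rw [sup_comm]
  exact Subgroup.index_eq_one.mp hj

end Cfsg.Agent.Lib.Helper24.FongCov
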