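import Mathlib
import Cfsg.Agent.Lib.Helper24.FongCov2
import Cfsg.Agent.Lib.Helper25.Brauer2
import Cfsg.Agent.Lib.Helper1.CharClifford3

set_option autoImplicit false

namespace Cfsg.Agent.Lib.Helper24.FongRey

open Cfsg Cfsg.Agent.Lib.Helper1 Cfsg.Agent.Lib.Helper6 Cfsg.Agent.Lib.Helper24
open scoped ComplexConjugate

universe u

variable {G : Type u} [Group G] [Fintype G] {M : Ideal AlgInt}

theorem indFun_one (T : Subgroup G) (ψ : T → ℂ) : indFun T ψ 1 = (T.index : ℂ) * ψ 1 := by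
  rw [indFun_apply]
  have h1 : ∀ x : G, extendByZero T ψ (x⁻¹ * 1 * x) = ψ 1 := by
    intro x
    have e : x⁻¹ * 1 * x = ((1 : T) : G) := by simp
    rw [e, extendByZero_coe]
  rw [Finset.sum_congr rfl (fun x _ => h1 x), Finset.sum_const, Finset.card_univ, nsmul_eq_mul]
  have hT0 : (Nat.card T : ℂ) ≠ 0 := by exact_mod_cast Nat.card_pos.ne'
  rw [← Nat.card_eq_fintype_card, ← Subgroup.card_mul_index T]
  push_cast
  field_simp

theorem omega_ind (T : Subgroup G) [Fintype T] (ψ : T → ℂ) (f : G → ℂ)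
    (hf : IsClassFunction G f) (hψ1 : ψ 1 ≠ 0) :
    omega (indFun T ψ) f = omega ψ (fun t : T => f t) := by
  have hcf : IsClassFunction G (fun g => conj (f g)) := by
    intro g h
    show conj (f (h * g * h⁻¹)) = conj (f g)
    rw [hf g h]
  have hfr := frobenius_reciprocity T ψ hcf
  have hG0 : (Nat.card G : ℂ) ≠ 0 := by exact_mod_cast Nat.card_pos.ne'
  have hT0 : (Nat.card T : ℂ) ≠ 0 := by exact_mod_cast Nat.card_pos.ne'
  have hI0 : (T.index : ℂ) ≠ 0 := by exact_mod_cast Subgroup.index_ne_zero_of_finite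
  have h1 : ∑ g : G, f g * indFun T ψ g
      = (Nat.card G : ℂ) * classInner (indFun T ψ) (fun g => conj (f g)) := by
    show _ = (Nat.card G : ℂ) * ((Nat.card G : ℂ)⁻¹ * ∑ g : G, indFun T ψ g * conj (conj (f g)))
    rw [← mul_assoc, mul_inv_cancel₀ hG0, one_mul]
    apply Finset.sum_congr rfl
    intro g _
    rw [Complex.conj_conj]
    ring
  have h2 : ∑ t : T, f t * ψ t
      = (Nat.card T : ℂ) * classInner ψ (fun t : T => conj (f t)) := by
    show _ = (Nat.card T : ℂ) * ((Nat.card T : ℂ)⁻¹ * ∑ t : T, ψ t * conj (conj (f t)))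
    rw [← mul_assoc, mul_inv_cancel₀ hT0, one_mul]
    apply Finset.sum_congr rfl
    intro g _
    rw [Complex.conj_conj]
    ring
  show (∑ g : G, f g * indFun T ψ g) / indFun T ψ 1 = (∑ t : T, f t * ψ t) / ψ 1
  rw [h1, hfr, indFun_one, h2, ← Subgroup.card_mul_index T]
  push_cast
  field_simp

theorem omega_of_ind (T : Subgroup G) [Fintype T] (y : T → ℂ) (χ : G → ℂ)
    (hχ : IsClassFunction G χ) :
    omega χ (indFun T y) = (T.index : ℂ) * (∑ t : T, y t * χ t) / χ 1 := by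
  have hcf : IsClassFunction G (fun g => conj (χ g)) := by
    intro g h
    show conj (χ (h * g * h⁻¹)) = conj (χ g)
    rw [hχ g h]
  have hfr := frobenius_reciprocity T y hcf
  have hG0 : (Nat.card G : ℂ) ≠ 0 := by exact_mod_cast Nat.card_pos.ne'
  have hT0 : (Nat.card T : ℂ) ≠ 0 := by exact_mod_cast Nat.card_pos.ne'
  have h1 : ∑ g : G, indFun T y g * χ g
      = (Nat.card G : ℂ) * classInner (indFun T y) (fun g => conj (χ g)) := by
    show _ = (Nat.card G : ℂ) * ((Nat.card G : ℂ)⁻¹ * ∑ g : G, indFun T y g * conj (conj (χ g)))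
    rw [← mul_assoc, mul_inv_cancel₀ hG0, one_mul]
    apply Finset.sum_congr rfl
    intro g _
    rw [Complex.conj_conj]
  have h2 : ∑ t : T, y t * χ t
      = (Nat.card T : ℂ) * classInner y (fun t : T => conj (χ t)) := by
    show _ = (Nat.card T : ℂ) * ((Nat.card T : ℂ)⁻¹ * ∑ t : T, y t * conj (conj (χ t)))
    rw [← mul_assoc, mul_inv_cancel₀ hT0, one_mul]
    apply Finset.sum_congr rfl
    intro g _
    rw [Complex.conj_conj]
  show (∑ g : G, indFun T y g * χ g) / χ 1 = _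
  rw [h1, hfr, h2, ← Subgroup.card_mul_index T]
  push_cast
  ring

theorem sum_eq_card_mul_sum_out (T : Subgroup G) [Fintype (G ⧸ T)] (f : G → ℂ)
    (hf : ∀ x : G, ∀ t ∈ T, f (x * t) = f x) :
    ∑ x : G, f x = (Nat.card T : ℂ) * ∑ q : G ⧸ T, f q.out := by
  classical
  rw [← Finset.sum_fiberwise Finset.univ (fun x : G => (x : G ⧸ T)) f, Finset.mul_sum]
  apply Finset.sum_congr rfl
  intro q _
  have h1 : ∀ x ∈ Finset.univ.filter (fun x : G => (x : G ⧸ T) = q), f x = f q.out := by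
    intro x hx
    have hx' : (x : G ⧸ T) = q := (Finset.mem_filter.mp hx).2
    have h2 : q.out⁻¹ * x ∈ T := by
      rw [← QuotientGroup.eq, QuotientGroup.out_eq', hx']
    have h3 := hf q.out (q.out⁻¹ * x) h2
    rw [mul_inv_cancel_left] at h3
    exact h3
  rw [Finset.sum_congr rfl h1, Finset.sum_const, nsmul_eq_mul]
  congr 1
  have hcard : (Finset.univ.filter (fun x : G => (x : G ⧸ T) = q)).card = Nat.card T := by
    haveI : Fintype T := Fintype.ofFinite T
    rw [Nat.card_eq_fintype_card, ← Finset.card_univ]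
    symm
    apply Finset.card_bij (fun (t : T) _ => q.out * (t : G))
    · intro t _
      rw [Finset.mem_filter]
      exact ⟨Finset.mem_univ _, (QuotientGroup.mk_mul_of_mem q.out t.2).trans
        (QuotientGroup.out_eq' q)⟩
    · intro t₁ _ t₂ _ h
      exact Subtype.ext (mul_left_cancel h)
    · intro x hx
      have hx' : (x : G ⧸ T) = q := (Finset.mem_filter.mp hx).2
      have h2 : q.out⁻¹ * x ∈ T := by
        rw [← QuotientGroup.eq, QuotientGroup.out_eq', hx']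
      exact ⟨⟨q.out⁻¹ * x, h2⟩, Finset.mem_univ _, by simp⟩
  rw [hcard]

theorem sVal_indFun (hmax : M.IsMaximal) (T : Subgroup G) [Fintype T] (y : T → ℂ)
    (hy : IsClassFunction T y) (hS : SVal M y) : SVal M (indFun T y) := by
  classical
  intro g
  rw [indFun_apply]
  have hT0 : (Nat.card T : ℂ) ≠ 0 := by exact_mod_cast Nat.card_pos.ne'
  have hf : ∀ x : G, ∀ t ∈ T, extendByZero T y ((x * t)⁻¹ * g * (x * t))
      = extendByZero T y (x⁻¹ * g * x) := by
    intro x t ht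
    by_cases hx : x⁻¹ * g * x ∈ T
    · have hx' : (x * t)⁻¹ * g * (x * t) ∈ T := by
        have e : (x * t)⁻¹ * g * (x * t) = t⁻¹ * (x⁻¹ * g * x) * t := by group
        rw [e]
        exact T.mul_mem (T.mul_mem (T.inv_mem ht) hx) ht
      rw [extendByZero_of_mem T y hx, extendByZero_of_mem T y hx']
      have e2 : (⟨(x * t)⁻¹ * g * (x * t), hx'⟩ : T)
          = (⟨t, ht⟩ : T)⁻¹ * ⟨x⁻¹ * g * x, hx⟩ * (⟨t, ht⟩ : T)⁻¹⁻¹ := by
        apply Subtype.ext
        show (x * t)⁻¹ * g * (x * t) = t⁻¹ * (x⁻¹ * g * x) * t⁻¹⁻¹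
        group
      rw [e2]
      exact hy _ _
    · have hx' : (x * t)⁻¹ * g * (x * t) ∉ T := by
        intro hc
        apply hx
        have e : x⁻¹ * g * x = t * ((x * t)⁻¹ * g * (x * t)) * t⁻¹ := by group
        rw [e]
        exact T.mul_mem (T.mul_mem ht hc) (T.inv_mem ht)
      rw [extendByZero_of_not_mem T y hx, extendByZero_of_not_mem T y hx']
  rw [sum_eq_card_mul_sum_out T (fun x => extendByZero T y (x⁻¹ * g * x)) hf, ← mul_assoc,
    inv_mul_cancel₀ hT0, one_mul]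
  apply memLocalRing_sum hmax
  intro q _
  by_cases hq : q.out⁻¹ * g * q.out ∈ T
  · rw [extendByZero_of_mem T y hq]
    exact hS _
  · rw [extendByZero_of_not_mem T y hq]
    exact memLocalRing_zero hmax

theorem inner_transfer (N T : Subgroup G) [Fintype N] [Fintype T] [Fintype (N.subgroupOf T)]
    (hNT : N ≤ T) (ψ : T → ℂ) (θ : N → ℂ) :
    classInner (fun x : N.subgroupOf T => ψ x) (θ ∘ (Subgroup.subgroupOfEquivOfLe hNT))
      = classInner (fun n : N => ψ ⟨n, hNT n.2⟩) θ := by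
  have h := classInner_comp_mulEquiv (Subgroup.subgroupOfEquivOfLe hNT)
    (fun n : N => ψ ⟨n, hNT n.2⟩) θ
  rw [← h]
  rfl

theorem charStab_transfer (N T : Subgroup G) [hN : N.Normal] [Fintype T] (hNT : N ≤ T)
    (θ : N → ℂ) (t : T) :
    t ∈ charStab (N.subgroupOf T) (θ ∘ (Subgroup.subgroupOfEquivOfLe hNT))
      ↔ (t : G) ∈ charStab N θ := by
  have he : ∀ x : N.subgroupOf T,
      (((Subgroup.subgroupOfEquivOfLe hNT) x : N) : G) = ((x : T) : G) := fun x => rfl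
  have he' : ∀ n : N, ((((Subgroup.subgroupOfEquivOfLe hNT).symm n : N.subgroupOf T) : T) : G)
      = (n : G) := by
    intro n
    have h1 := he ((Subgroup.subgroupOfEquivOfLe hNT).symm n)
    rw [MulEquiv.apply_symm_apply] at h1
    exact h1.symm
  rw [mem_charStab, mem_charStab]
  constructor
  · intro h
    funext n
    have h2 := congrFun h ((Subgroup.subgroupOfEquivOfLe hNT).symm n)
    have h3 : (θ ∘ (Subgroup.subgroupOfEquivOfLe hNT))
        ((Subgroup.subgroupOfEquivOfLe hNT).symm n) = θ n := by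
      show θ ((Subgroup.subgroupOfEquivOfLe hNT) ((Subgroup.subgroupOfEquivOfLe hNT).symm n))
        = θ n
      rw [MulEquiv.apply_symm_apply]
    rw [h3] at h2
    rw [← h2]
    show θ ⟨(t : G) * n * (t : G)⁻¹, _⟩ = θ ((Subgroup.subgroupOfEquivOfLe hNT) _)
    apply congrArg θ
    apply Subtype.ext
    rw [he]
    show (t : G) * n * (t : G)⁻¹ = (t : G)
      * ((((Subgroup.subgroupOfEquivOfLe hNT).symm n : N.subgroupOf T) : T) : G) * (t : G)⁻¹
    rw [he']
  · intro h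
    funext x
    have h2 := congrFun h ((Subgroup.subgroupOfEquivOfLe hNT) x)
    show θ ((Subgroup.subgroupOfEquivOfLe hNT) _) = θ ((Subgroup.subgroupOfEquivOfLe hNT) x)
    rw [← h2]
    show θ ((Subgroup.subgroupOfEquivOfLe hNT) _) = θ ⟨(t : G)
      * ((Subgroup.subgroupOfEquivOfLe hNT) x : N) * (t : G)⁻¹, _⟩
    apply congrArg θ
    apply Subtype.ext
    rw [he]
    rfl

theorem res_nat (N T : Subgroup G) [Fintype N] [Fintype T] (hNT : N ≤ T) {ψ : T → ℂ}
    (hψ : IsCharacter T ψ) {θ : N → ℂ} (hθ : IsIrrCharacter N θ) :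
    ∃ a : ℕ, classInner (fun n : N => ψ ⟨n, hNT n.2⟩) θ = (a : ℂ) := by
  haveI : Fintype (N.subgroupOf T) := Fintype.ofFinite _
  rw [← inner_transfer N T hNT ψ θ]
  exact IsCharacter.classInner_irr_nat (IsCharacter.restrict hψ (N.subgroupOf T))
    (IsIrrCharacter.comp_mulEquiv hθ _)

theorem inner_res_expand (N T : Subgroup G) [Fintype N] [Fintype T] [Fintype (IrrCharacter T)]
    (hNT : N ≤ T) {Φ : T → ℂ} (m : IrrCharacter T → ℕ)
    (hm2 : Φ = ∑ ψ : IrrCharacter T, (m ψ : ℂ) • (ψ : T → ℂ)) (θ : N → ℂ) :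
    classInner (fun n : N => Φ ⟨n, hNT n.2⟩) θ
      = ∑ ψ : IrrCharacter T, (m ψ : ℂ) * classInner (fun n : N => ψ.1 ⟨n, hNT n.2⟩) θ := by
  have h1 : (fun n : N => Φ ⟨n, hNT n.2⟩)
      = ∑ ψ : IrrCharacter T, (m ψ : ℂ) • (fun n : N => ψ.1 ⟨n, hNT n.2⟩) := by
    funext n
    have h2 := congrFun hm2 ⟨n, hNT n.2⟩
    rw [Finset.sum_apply] at h2
    rw [Finset.sum_apply]
    exact h2
  rw [h1, classInner_sum_left]
  apply Finset.sum_congr rfl
  intro ψ _
  rw [classInner_smul_left]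

theorem ind_irr (N T : Subgroup G) [hN : N.Normal] [Fintype N] [Fintype T] (hNT : N ≤ T)
    {θ : N → ℂ} (hθ : IsIrrCharacter N θ) (hstab : charStab N θ ≤ T)
    {ψ : T → ℂ} (hψ : IsIrrCharacter T ψ)
    (hover : classInner (fun n : N => ψ ⟨n, hNT n.2⟩) θ ≠ 0) :
    IsIrrCharacter G (indFun T ψ) ∧
      classInner (fun n : N => indFun T ψ n) θ = classInner (fun n : N => ψ ⟨n, hNT n.2⟩) θ ∧
      ∀ ψ' : T → ℂ, IsIrrCharacter T ψ' → ψ' ≠ ψ →
        classInner (fun t : T => indFun T ψ t) ψ' ≠ 0 →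
        classInner (fun n : N => ψ' ⟨n, hNT n.2⟩) θ = 0 := by
  classical
  haveI hirrT : Fintype (IrrCharacter T) := irrFintype
  haveI hfN' : Fintype (N.subgroupOf T) := Fintype.ofFinite _
  have hθ' : IsIrrCharacter (N.subgroupOf T) (θ ∘ (Subgroup.subgroupOfEquivOfLe hNT)) :=
    IsIrrCharacter.comp_mulEquiv hθ _
  have hov' : classInner (fun x : N.subgroupOf T => ψ x)
      (θ ∘ (Subgroup.subgroupOfEquivOfLe hNT)) ≠ 0 := by
    rw [inner_transfer]
    exact hover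
  have hcT := Cfsg.Agent.Lib.Helper25.Brauer.clifford_one (N.subgroupOf T) hθ' hψ hov'
  have hidx : (charStab (N.subgroupOf T) (θ ∘ (Subgroup.subgroupOfEquivOfLe hNT))).index
      = (charStab N θ).relIndex T := by
    have h1 : charStab (N.subgroupOf T) (θ ∘ (Subgroup.subgroupOfEquivOfLe hNT))
        = (charStab N θ).subgroupOf T := by
      ext t
      rw [Subgroup.mem_subgroupOf]
      exact charStab_transfer N T hNT θ t
    rw [h1]
    rfl
  rw [inner_transfer, hidx] at hcT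
  have hθ1 : (θ ∘ (Subgroup.subgroupOfEquivOfLe hNT)) 1 = θ 1 := by
    show θ ((Subgroup.subgroupOfEquivOfLe hNT) 1) = θ 1
    rw [map_one]
  rw [hθ1] at hcT
  obtain ⟨A, hA⟩ := res_nat N T hNT (IsIrrCharacter.isCharacter hψ) hθ
  have hA0 : A ≠ 0 := by
    intro h
    apply hover
    rw [hA, h, Nat.cast_zero]
  obtain ⟨d, hdpos, hd⟩ := IsIrrCharacter.degree_pos hθ
  have hidxpos : 0 < (charStab N θ).index := Nat.pos_of_ne_zero Subgroup.index_ne_zero_of_finite
  have hΨ : IsCharacter G (indFun T ψ) := indFun_isCharacter T (IsIrrCharacter.isCharacter hψ)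
  have hΨ1 : indFun T ψ 1 = ((A * (charStab N θ).index * d : ℕ) : ℂ) := by
    rw [indFun_one, hcT, hA, hd, ← Subgroup.relIndex_mul_index hstab]
    push_cast
    ring
  have hΨne : indFun T ψ ≠ 0 := by
    intro h0
    have h1 : indFun T ψ 1 = 0 := by
      rw [h0]
      rfl
    rw [hΨ1] at h1
    have h2 : A * (charStab N θ).index * d = 0 := by exact_mod_cast h1
    have h3 : 0 < A * (charStab N θ).index * d :=
      Nat.mul_pos (Nat.mul_pos (Nat.pos_of_ne_zero hA0) hidxpos) hdpos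
    omega
  obtain ⟨χ, hχ, hχne⟩ : ∃ χ : G → ℂ, IsIrrCharacter G χ ∧ classInner (indFun T ψ) χ ≠ 0 := by
    by_contra hcon
    push Not at hcon
    exact hΨne (classFunction_eq_zero (IsCharacter.isClassFunction hΨ) hcon)
  have hχT : IsCharacter T (fun t : T => χ t) :=
    IsCharacter.restrict (IsIrrCharacter.isCharacter hχ) T
  obtain ⟨m, hm1, hm2⟩ := IsCharacter.eq_sum_irr hχT
  have hfr := frobenius_reciprocity T ψ (IsIrrCharacter.isClassFunction hχ)
  have hmψ : m ⟨ψ, hψ⟩ ≠ 0 := by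
    intro h0
    have h1 := hm1 ⟨ψ, hψ⟩
    rw [h0, Nat.cast_zero] at h1
    apply hχne
    rw [hfr, ← classInner_conj_symm, h1, map_zero]
  have ha : ∀ ψ'' : IrrCharacter T, ∃ a : ℕ,
      classInner (fun n : N => ψ''.1 ⟨n, hNT n.2⟩) θ = (a : ℂ) :=
    fun ψ'' => res_nat N T hNT (IsIrrCharacter.isCharacter ψ''.2) hθ
  choose a ha using ha
  obtain ⟨E, hEdef⟩ : ∃ E : ℕ, E = ∑ ψ'' : IrrCharacter T, m ψ'' * a ψ'' := ⟨_, rfl⟩
  have hE : classInner (fun n : N => χ n) θ = (E : ℂ) := by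
    have h1 := inner_res_expand N T hNT m hm2 θ
    have h3 : ∑ ψ'' : IrrCharacter T,
        (m ψ'' : ℂ) * classInner (fun n : N => ψ''.1 ⟨n, hNT n.2⟩) θ = (E : ℂ) := by
      rw [hEdef]
      push_cast
      apply Finset.sum_congr rfl
      intro ψ'' _
      rw [ha ψ'']
    rw [← h3]
    exact h1
  have haψ : a ⟨ψ, hψ⟩ = A := by
    have h1 := ha ⟨ψ, hψ⟩
    rw [hA] at h1
    exact_mod_cast h1.symm
  have hEA : A ≤ E := by
    rw [hEdef]
    calc A ≤ m ⟨ψ, hψ⟩ * a ⟨ψ, hψ⟩ := by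
          rw [haψ]
          exact Nat.le_mul_of_pos_left _ (Nat.pos_of_ne_zero hmψ)
      _ ≤ ∑ ψ'' : IrrCharacter T, m ψ'' * a ψ'' :=
          Finset.single_le_sum (f := fun ψ'' => m ψ'' * a ψ'') (fun _ _ => Nat.zero_le _)
            (Finset.mem_univ _)
  have hE0 : classInner (fun n : N => χ n) θ ≠ 0 := by
    rw [hE]
    have h1 : E ≠ 0 := by omega
    exact_mod_cast h1
  have hcG := Cfsg.Agent.Lib.Helper25.Brauer.clifford_one N hθ hχ hE0
  rw [hE, hd] at hcG
  haveI hirrG : Fintype (IrrCharacter G) := irrFintype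
  obtain ⟨k, hk1, hk2⟩ := IsCharacter.eq_sum_irr hΨ
  have hdeg : ∀ χ' : IrrCharacter G, ∃ n : ℕ, 0 < n ∧ χ'.1 1 = (n : ℂ) :=
    fun χ' => IsIrrCharacter.degree_pos χ'.2
  choose dg hdgpos hdg using hdeg
  have hΨsum : A * (charStab N θ).index * d = ∑ χ' : IrrCharacter G, k χ' * dg χ' := by
    have h1 := congrFun hk2 1
    rw [hΨ1, Finset.sum_apply] at h1
    have h2 : ∑ χ' : IrrCharacter G, ((k χ' : ℂ) • χ'.1) 1
        = ((∑ χ' : IrrCharacter G, k χ' * dg χ' : ℕ) : ℂ) := by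
      push_cast
      apply Finset.sum_congr rfl
      intro χ' _
      rw [Pi.smul_apply, smul_eq_mul, hdg χ']
    rw [h2] at h1
    exact_mod_cast h1
  have hkχ : k ⟨χ, hχ⟩ ≠ 0 := by
    intro h0
    apply hχne
    rw [hk1 ⟨χ, hχ⟩, h0, Nat.cast_zero]
  have hdgχ : dg ⟨χ, hχ⟩ = E * (charStab N θ).index * d := by
    have h1 := hdg ⟨χ, hχ⟩
    have h2 : (dg ⟨χ, hχ⟩ : ℂ) = ((E * (charStab N θ).index * d : ℕ) : ℂ) := by
      rw [← h1]
      push_cast
      exact hcG
    exact_mod_cast h2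
  have hle : E * (charStab N θ).index * d ≤ A * (charStab N θ).index * d := by
    rw [hΨsum, ← hdgχ]
    calc dg ⟨χ, hχ⟩ ≤ k ⟨χ, hχ⟩ * dg ⟨χ, hχ⟩ :=
          Nat.le_mul_of_pos_left _ (Nat.pos_of_ne_zero hkχ)
      _ ≤ ∑ χ' : IrrCharacter G, k χ' * dg χ' :=
          Finset.single_le_sum (f := fun χ' => k χ' * dg χ') (fun _ _ => Nat.zero_le _)
            (Finset.mem_univ _)
  have hEA' : E = A := by
    have h1 : E ≤ A := by
      have h2 : E * ((charStab N θ).index * d) ≤ A * ((charStab N θ).index * d) := by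
        rw [← mul_assoc, ← mul_assoc]
        exact hle
      exact Nat.le_of_mul_le_mul_right h2 (Nat.mul_pos hidxpos hdpos)
    omega
  have hΨχ : indFun T ψ = χ := by
    apply eq_of_degree_eq hΨ hχ hχne
    rw [hΨ1, hcG, hEA']
    push_cast
    ring
  refine ⟨by rw [hΨχ]; exact hχ, ?_, ?_⟩
  · rw [hΨχ, hE, hA, hEA']
  · intro ψ' hψ' hne hcon
    rw [hΨχ] at hcon
    have hmψ' : m ⟨ψ', hψ'⟩ ≠ 0 := by
      intro h0
      apply hcon
      rw [hm1 ⟨ψ', hψ'⟩, h0, Nat.cast_zero]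
    have hne' : (⟨ψ, hψ⟩ : IrrCharacter T) ≠ ⟨ψ', hψ'⟩ :=
      fun h => hne (congrArg Subtype.val h).symm
    have h2 : ∑ x ∈ ({⟨ψ, hψ⟩, ⟨ψ', hψ'⟩} : Finset (IrrCharacter T)), m x * a x
        ≤ ∑ x : IrrCharacter T, m x * a x :=
      Finset.sum_le_sum_of_subset (Finset.subset_univ _)
    rw [Finset.sum_pair hne', ← hEdef] at h2
    have h3 : a ⟨ψ', hψ'⟩ = 0 := by
      by_contra h4
      have h5 : 1 ≤ m ⟨ψ', hψ'⟩ * a ⟨ψ', hψ'⟩ :=
        Nat.one_le_iff_ne_zero.mpr (Nat.mul_ne_zero hmψ' h4)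
      have h6 : A ≤ m ⟨ψ, hψ⟩ * a ⟨ψ, hψ⟩ := by
        rw [haψ]
        exact Nat.le_mul_of_pos_left _ (Nat.pos_of_ne_zero hmψ)
      omega
    rw [ha ⟨ψ', hψ'⟩, h3, Nat.cast_zero]

theorem exists_ind (N T : Subgroup G) [hN : N.Normal] [Fintype N] [Fintype T] (hNT : N ≤ T)
    {θ : N → ℂ} (hθ : IsIrrCharacter N θ) (hstab : charStab N θ ≤ T)
    {χ : G → ℂ} (hχ : IsIrrCharacter G χ) (hover : classInner (fun n : N => χ n) θ ≠ 0) :
    ∃ ψ : T → ℂ, IsIrrCharacter T ψ ∧ classInner (fun n : N => ψ ⟨n, hNT n.2⟩) θ ≠ 0 ∧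
      χ = indFun T ψ := by
  classical
  haveI hirrT : Fintype (IrrCharacter T) := irrFintype
  have hχT : IsCharacter T (fun t : T => χ t) :=
    IsCharacter.restrict (IsIrrCharacter.isCharacter hχ) T
  obtain ⟨m, hm1, hm2⟩ := IsCharacter.eq_sum_irr hχT
  have h2 := inner_res_expand N T hNT m hm2 θ
  obtain ⟨ψ, hψne⟩ : ∃ ψ : IrrCharacter T,
      (m ψ : ℂ) * classInner (fun n : N => ψ.1 ⟨n, hNT n.2⟩) θ ≠ 0 := by
    by_contra hcon
    push Not at hcon
    apply hover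
    have h3 : classInner (fun n : N => χ n) θ
        = ∑ ψ : IrrCharacter T, (m ψ : ℂ) * classInner (fun n : N => ψ.1 ⟨n, hNT n.2⟩) θ := h2
    rw [h3]
    exact Finset.sum_eq_zero (fun ψ _ => hcon ψ)
  have hm : (m ψ : ℂ) ≠ 0 := left_ne_zero_of_mul hψne
  have hov : classInner (fun n : N => ψ.1 ⟨n, hNT n.2⟩) θ ≠ 0 := right_ne_zero_of_mul hψne
  obtain ⟨hirr, -, -⟩ := ind_irr N T hNT hθ hstab ψ.2 hov
  refine ⟨ψ.1, ψ.2, hov, ?_⟩
  have hfr := frobenius_reciprocity T ψ.1 (IsIrrCharacter.isClassFunction hχ)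
  have hne : classInner (indFun T ψ.1) χ ≠ 0 := by
    rw [hfr]
    intro h0
    apply hm
    rw [← hm1 ψ, ← classInner_conj_symm, h0, map_zero]
  by_contra hcon
  exact hne (classInner_irr_ne hirr hχ (fun h => hcon h.symm))

theorem inner_conj (N : Subgroup G) [hN : N.Normal] [Fintype N] (f : N → ℂ) (g : G)
    (hf : ∀ n : N, f ⟨g * n * g⁻¹, hN.conj_mem n n.2 g⟩ = f n) (θ : N → ℂ) :
    classInner f (conjChar N θ g) = classInner f θ := by
  have h1 : f ∘ conjNormal N g = f := by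
    funext n
    exact hf n
  rw [conjChar_eq_comp]
  have h2 := classInner_comp_mulEquiv (conjNormal N g) f θ
  rw [h1] at h2
  exact h2

end Cfsg.Agent.Lib.Helper24.FongRey
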