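import Mathlib
import Cfsg.Agent.Lib.Helper1.CentExt
import Cfsg.Agent.Lib.Helper1.CharCoset
import Cfsg.Agent.Lib.Helper1.CharExtra
import Cfsg.Agent.Lib.Helper1.CharPRes
import Cfsg.Agent.Lib.Helper1.CharInt
import Cfsg.Agent.Lib.Helper1.CharClifford3
import Cfsg.Agent.Lib.Helper24.FongRey1

set_option autoImplicit false
set_option linter.unusedSectionVars false
set_option linter.unusedVariables false
set_option linter.style.haveILetI false

namespace Cfsg.Agent.Lib.Helper24.DegDvd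

open Cfsg Cfsg.Agent.Lib.Helper1 Cfsg.Agent.Lib.Helper24
open Representation Module
open scoped ComplexConjugate

universe u

theorem irr_degree_dvd_index_center {X : Type u} [Group X] [Fintype X] {β : X → ℂ}
    (hβ : IsIrrCharacter X β) :
    ∃ n : ℕ, β 1 = (n : ℂ) ∧ n ∣ (Subgroup.center X).index := by
  obtain ⟨n, ρ, hρ, rfl⟩ := hβ
  haveI := hρ
  exact ⟨_, char_one ρ, degree_dvd_index_center ρ⟩

variable {G : Type u} [Group G] [Fintype G]

theorem deg_dvd_inv (N : Subgroup G) [hN : N.Normal] [Fintype N] (θ : IrrCharacter N)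
    (hinv : ∀ (g : G) (n : N), (θ : N → ℂ) ⟨g * n * g⁻¹, hN.conj_mem n n.2 g⟩ = (θ : N → ℂ) n)
    (χ : IrrCharacter G)
    (hχ : classInner (fun n : N => (χ : G → ℂ) n) (θ : N → ℂ) ≠ 0) :
    ∃ b : ℕ, (χ : G → ℂ) 1 = (b : ℂ) * (θ : N → ℂ) 1 ∧ b ∣ N.index := by
  classical
  have hinv' : ∀ (g : G) (m : N), (θ : N → ℂ) (MulAut.conjNormal g m) = (θ : N → ℂ) m := by
    intro g m
    have : (MulAut.conjNormal g m : N) = ⟨g * m * g⁻¹, hN.conj_mem m m.2 g⟩ :=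
      Subtype.ext (MulAut.conjNormal_apply g m)
    rw [this]; exact hinv g m
  obtain ⟨E, iE, fE, π, ι, Θ, e, hπ, hι, hπι, hconj, hcen, hpow, he, hΘ, hΘι⟩ :=
    CentExt.exists_central_ext N θ.2 hinv'
  haveI : Fintype E := Fintype.ofFinite E
  obtain ⟨N₀, hN₀def⟩ : ∃ N₀ : Subgroup E, N₀ = ι.range := ⟨_, rfl⟩
  have hN₀mem : ∀ m : N, ι m ∈ N₀ := fun m => by rw [hN₀def]; exact ⟨m, rfl⟩
  have hN₀ex : ∀ x ∈ N₀, ∃ m : N, ι m = x := fun x hx => by rw [hN₀def] at hx; exact hx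
  haveI hN₀n : N₀.Normal := ⟨by
    intro x hx y
    obtain ⟨m, rfl⟩ := hN₀ex x hx
    rw [hconj y m]
    exact hN₀mem _⟩
  haveI : Fintype N₀ := Fintype.ofFinite _
  let e₀ : N ≃* N₀ := MulEquiv.ofBijective (ι.codRestrict N₀ hN₀mem)
    ⟨fun a b h => hι (congrArg Subtype.val h), fun x => by
      obtain ⟨m, hm⟩ := hN₀ex x x.2
      exact ⟨m, Subtype.ext hm⟩⟩
  have he₀ : ∀ m : N, ((e₀ m : N₀) : E) = ι m := fun m => rfl
  have he₀symm : ∀ x : N₀, ι (e₀.symm x) = (x : E) := by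
    intro x
    have := he₀ (e₀.symm x)
    rw [MulEquiv.apply_symm_apply] at this
    exact this.symm
  have hΘres : (fun x : N₀ => Θ x) = (θ : N → ℂ) ∘ e₀.symm := by
    funext x
    show Θ (x : E) = (θ : N → ℂ) (e₀.symm x)
    rw [← he₀symm x, hΘι]
  have hΘN₀ : IsIrrCharacter N₀ (fun x : N₀ => Θ x) := by
    rw [hΘres]; exact IsIrrCharacter.comp_mulEquiv θ.2 e₀.symm
  have hbij := gallagher_bij N₀ hΘ hΘN₀
  let e₁ : E ⧸ π.ker ≃* G := QuotientGroup.quotientKerEquivOfSurjective π hπ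
  have he₁ : ∀ x : E, e₁ (x : E ⧸ π.ker) = π x := fun x => rfl
  have hlift : ∀ φ : IrrCharacter G, IsIrrCharacter E (fun x : E => (φ : G → ℂ) (π x)) := by
    intro φ
    have h1 : IsIrrCharacter (E ⧸ π.ker) ((φ : G → ℂ) ∘ e₁) :=
      IsIrrCharacter.comp_mulEquiv φ.2 e₁
    haveI : Fintype (E ⧸ π.ker) := Fintype.ofFinite _
    exact IsIrrCharacter.inflate π.ker h1
  have hover : ∀ φ : IrrCharacter G,
      classInner (fun n : N => (φ : G → ℂ) n) (θ : N → ℂ) ≠ 0 →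
      ∃ β : E → ℂ, IsIrrCharacter E β ∧ (∀ m ∈ N₀, ∀ g : E, β (m * g) = β g) ∧
        β * Θ = fun x : E => (φ : G → ℂ) (π x) := by
    intro φ hφ
    have hmem : (fun x : E => (φ : G → ℂ) (π x)) ∈ {ψ : E → ℂ | IsIrrCharacter E ψ ∧
        classInner (fun n : N₀ => ψ n) (fun n : N₀ => Θ n) ≠ 0} := by
      refine ⟨hlift φ, ?_⟩
      have h1 : (fun n : N₀ => (φ : G → ℂ) (π (n : E)))
          = (fun n : N => (φ : G → ℂ) n) ∘ e₀.symm := by
        funext x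
        show (φ : G → ℂ) (π (x : E)) = (φ : G → ℂ) ((e₀.symm x : N) : G)
        rw [← he₀symm x, hπι]
      show classInner (fun n : N₀ => (φ : G → ℂ) (π (n : E))) (fun n : N₀ => Θ n) ≠ 0
      rw [h1, hΘres, classInner_comp_mulEquiv]
      exact hφ
    obtain ⟨β, hβS, hβ⟩ := hbij.surjOn hmem
    exact ⟨β, hβS.1, source_periodic N₀ hβS, hβ⟩
  obtain ⟨β, hβirr, hβper, hβχ⟩ := hover χ hχ
  have hβN : ∀ m ∈ N₀, β m = β 1 := fun m hm => by
    have := hβper m hm 1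
    rwa [mul_one] at this
  obtain ⟨βq, hβq, hβqeq⟩ := IsIrrCharacter.deflate N₀ hβirr hβN
  haveI : Fintype (E ⧸ N₀) := Fintype.ofFinite _
  let f : E ⧸ N₀ →* G ⧸ N := QuotientGroup.lift N₀ ((QuotientGroup.mk' N).comp π) (by
    intro x hx
    obtain ⟨m, rfl⟩ := hN₀ex x hx
    rw [MonoidHom.mem_ker]
    show ((π (ι m) : G) : G ⧸ N) = 1
    rw [hπι]
    exact (QuotientGroup.eq_one_iff _).mpr m.2)
  have hfmk : ∀ x : E, f (x : E ⧸ N₀) = ((π x : G) : G ⧸ N) := fun x => rfl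
  have hfsurj : Function.Surjective f := by
    intro q
    obtain ⟨g, rfl⟩ := QuotientGroup.mk_surjective q
    obtain ⟨x, rfl⟩ := hπ g
    exact ⟨(x : E ⧸ N₀), rfl⟩
  have hker : ∀ y ∈ f.ker, ∃ z : E, π z = 1 ∧ y = (z : E ⧸ N₀) := by
    intro y hy
    obtain ⟨x, rfl⟩ := QuotientGroup.mk_surjective y
    rw [MonoidHom.mem_ker, hfmk, QuotientGroup.eq_one_iff] at hy
    refine ⟨(ι ⟨π x, hy⟩)⁻¹ * x, ?_, ?_⟩
    · rw [map_mul, map_inv, hπι]
      exact inv_mul_cancel _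
    · rw [QuotientGroup.mk_mul, QuotientGroup.mk_inv,
        (QuotientGroup.eq_one_iff _).mpr (hN₀mem _), inv_one, one_mul]
  have hkercen : f.ker ≤ Subgroup.center (E ⧸ N₀) := by
    intro y hy
    obtain ⟨z, hz, rfl⟩ := hker y hy
    rw [Subgroup.mem_center_iff]
    intro w
    obtain ⟨w, rfl⟩ := QuotientGroup.mk_surjective w
    rw [← QuotientGroup.mk_mul, ← QuotientGroup.mk_mul, hcen z hz w]
  obtain ⟨b, hb1, hbdvd⟩ := irr_degree_dvd_index_center hβq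
  refine ⟨b, ?_, ?_⟩
  · have a := congrFun hβχ 1
    simp only [Pi.mul_apply] at a
    rw [map_one] at a
    have h1 : β 1 = (b : ℂ) := by
      rw [hβqeq 1]
      exact hb1
    have h2 : Θ 1 = (θ : N → ℂ) 1 := by
      rw [← hΘι 1, map_one]
    rw [← a, h1, h2]
  · have h1 : f.ker.index = N.index := by
      rw [Subgroup.index_ker, MonoidHom.range_eq_top.mpr hfsurj,
        Nat.card_congr (Subgroup.topEquiv.toEquiv)]
      rfl
    rw [← h1]
    exact hbdvd.trans (Subgroup.index_dvd_of_le hkercen)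

theorem deg_dvd (N : Subgroup G) [hN : N.Normal] [Fintype N] (θ : IrrCharacter N)
    (χ : IrrCharacter G)
    (hχ : classInner (fun n : N => (χ : G → ℂ) n) (θ : N → ℂ) ≠ 0) :
    ∃ b : ℕ, (χ : G → ℂ) 1 = (b : ℂ) * (θ : N → ℂ) 1 ∧ b ∣ N.index := by
  classical
  obtain ⟨I, hI⟩ : ∃ I : Subgroup G, I = charStab N θ.1 := ⟨_, rfl⟩
  have hNI : N ≤ I := by
    rw [hI]
    exact le_charStab N (IsIrrCharacter.isClassFunction θ.2)
  haveI : Fintype I := Fintype.ofFinite _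
  obtain ⟨ψ, hψ, hψover, hχeq⟩ := FongRey.exists_ind N I hNI θ.2 (by rw [hI]) χ.2 hχ
  haveI hnI : (N.subgroupOf I).Normal := Subgroup.normal_subgroupOf
  haveI : Fintype (N.subgroupOf I) := Fintype.ofFinite _
  have hθ' : IsIrrCharacter (N.subgroupOf I) (θ.1 ∘ (Subgroup.subgroupOfEquivOfLe hNI)) :=
    IsIrrCharacter.comp_mulEquiv θ.2 _
  have hover' : classInner (fun x : N.subgroupOf I => ψ x)
      (θ.1 ∘ (Subgroup.subgroupOfEquivOfLe hNI)) ≠ 0 := by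
    rw [FongRey.inner_transfer N I hNI ψ θ.1]
    exact hψover
  have hinv' : ∀ (g : I) (n : N.subgroupOf I),
      (θ.1 ∘ (Subgroup.subgroupOfEquivOfLe hNI)) ⟨g * n * g⁻¹, hnI.conj_mem n n.2 g⟩
        = (θ.1 ∘ (Subgroup.subgroupOfEquivOfLe hNI)) n := by
    intro g n
    have hg : (g : G) ∈ charStab N θ.1 := by
      rw [← hI]
      exact g.2
    have h1 := congrFun ((mem_charStab N θ.1 g).mp hg) (Subgroup.subgroupOfEquivOfLe hNI n)
    show θ.1 (Subgroup.subgroupOfEquivOfLe hNI ⟨g * n * g⁻¹, _⟩)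
      = θ.1 (Subgroup.subgroupOfEquivOfLe hNI n)
    rw [← h1]
    show _ = θ.1 ⟨(g : G) * ((Subgroup.subgroupOfEquivOfLe hNI n : N) : G) * (g : G)⁻¹, _⟩
    congr 1
  obtain ⟨b, hb, hbd⟩ := deg_dvd_inv (N.subgroupOf I) ⟨_, hθ'⟩ hinv' ⟨ψ, hψ⟩ hover'
  refine ⟨I.index * b, ?_, ?_⟩
  · rw [hχeq, FongRey.indFun_one]
    have h2 : ψ 1 = (b : ℂ) * θ.1 1 := by
      have h3 : (θ.1 ∘ (Subgroup.subgroupOfEquivOfLe hNI)) 1 = θ.1 1 := by
        show θ.1 (Subgroup.subgroupOfEquivOfLe hNI 1) = θ.1 1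
        rw [map_one]
      rw [← h3]
      exact hb
    rw [h2]
    push_cast
    ring
  · rw [← Subgroup.relIndex_mul_index hNI, mul_comm]
    exact Nat.mul_dvd_mul hbd (dvd_refl _)

end Cfsg.Agent.Lib.Helper24.DegDvd
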