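import Mathlib
import Cfsg.Agent.Lib.Helper24.Gal
import Cfsg.Agent.Lib.Helper24.SecondMain

set_option autoImplicit false

namespace Cfsg.Agent.Lib.Helper24.Gal2

open Cfsg Cfsg.Agent.Lib.Helper1 Cfsg.Agent.Lib.Helper6 Cfsg.Agent.Lib.Helper24
open scoped ComplexConjugate

universe u

variable {G : Type u} [Group G] [Fintype G] {M : Ideal AlgInt}

theorem coprime_of_pow {k : ℕ}
    (hk₁ : ∀ g : G, (∃ j : ℕ, orderOf g = 2 ^ j) → g ^ k = g ^ 3)
    (hk₂ : ∀ g : G, Odd (orderOf g) → g ^ k = g) : k.Coprime (Nat.card G) := by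
  by_contra hcon
  obtain ⟨r, hr, hrk, hrG⟩ := Nat.Prime.not_coprime_iff_dvd.mp hcon
  have hrfact : Fact r.Prime := ⟨hr⟩
  obtain ⟨g, hg⟩ := exists_prime_orderOf_dvd_card' r hrG
  have hgk : g ^ k = 1 := by
    rw [← orderOf_dvd_iff_pow_eq_one, hg]
    exact hrk
  have hg1 : g ≠ 1 := by
    intro h
    rw [h, orderOf_one] at hg
    exact hr.one_lt.ne hg
  rcases hr.eq_two_or_odd' with h2 | hodd
  · have h3 := hk₁ g ⟨1, by rw [hg, h2, pow_one]⟩
    rw [hgk] at h3
    have h4 : g ^ 2 = 1 := by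
      rw [← h2, ← hg]
      exact pow_orderOf_eq_one g
    apply hg1
    have h5 : g ^ 3 = g ^ 2 * g := pow_succ g 2
    rw [h4, one_mul] at h5
    rw [← h5, ← h3]
  · have h3 := hk₂ g (by rw [hg]; exact hodd)
    rw [hgk] at h3
    exact hg1 h3.symm

theorem three_pow (n : ℕ) : ∃ t : ℕ, 3 ^ (2 ^ n) = 1 + 2 ^ (n + 1) * t := by
  induction n with
  | zero => exact ⟨1, by norm_num⟩
  | succ n ih =>
    obtain ⟨t, ht⟩ := ih
    refine ⟨t + 2 ^ n * t ^ 2, ?_⟩
    rw [pow_succ 2 n, pow_mul, ht]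
    ring

theorem pow_pow_fix {k : ℕ}
    (hk₁ : ∀ g : G, (∃ j : ℕ, orderOf g = 2 ^ j) → g ^ k = g ^ 3)
    (hk₂ : ∀ g : G, Odd (orderOf g) → g ^ k = g) (g : G) :
    g ^ (k ^ (2 ^ Nat.card G)) = g := by
  have ha : ∀ N : ℕ, ∀ s : G, Odd (orderOf s) → s ^ (k ^ N) = s := by
    intro N
    induction N with
    | zero =>
      intro s _
      rw [pow_zero, pow_one]
    | succ N ih =>
      intro s hs
      rw [pow_succ, pow_mul, ih s hs, hk₂ s hs]
  have hb : ∀ N : ℕ, ∀ u : G, (∃ j : ℕ, orderOf u = 2 ^ j) → u ^ (k ^ N) = u ^ (3 ^ N) := by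
    intro N
    induction N with
    | zero =>
      intro u _
      rw [pow_zero, pow_zero]
    | succ N ih =>
      intro u hu
      rw [pow_succ, pow_mul, ih u hu]
      have h2 : ∃ j : ℕ, orderOf (u ^ (3 ^ N)) = 2 ^ j := by
        obtain ⟨j, hj⟩ := hu
        have h3 : orderOf (u ^ (3 ^ N)) ∣ 2 ^ j := by
          rw [← hj]
          exact orderOf_pow_dvd _
        obtain ⟨i, -, hi⟩ := (Nat.dvd_prime_pow Nat.prime_two).mp h3
        exact ⟨i, hi⟩
      rw [hk₁ _ h2, ← pow_mul, ← pow_succ]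
  obtain ⟨u, s, hus, hcomm, ⟨j, hj⟩, hs⟩ := SecondMain.exists_isPPart Nat.prime_two g
  have hsodd : Odd (orderOf s) := by
    rw [← Nat.not_even_iff_odd, even_iff_two_dvd]
    exact hs
  rw [← hus, hcomm.mul_pow, ha _ s hsodd, hb _ u ⟨j, hj⟩]
  congr 1
  obtain ⟨t, ht⟩ := three_pow (Nat.card G)
  have hjN : j ≤ Nat.card G + 1 := by
    have h1 : orderOf u ≤ Nat.card G := by
      rw [Nat.card_eq_fintype_card]
      exact orderOf_le_card_univ
    have h2 : j < 2 ^ j := Nat.lt_two_pow_self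
    rw [hj] at h1
    omega
  have h3 : u ^ (2 ^ (Nat.card G + 1)) = 1 := by
    rw [← orderOf_dvd_iff_pow_eq_one, hj]
    exact pow_dvd_pow 2 hjN
  rw [ht, pow_add, pow_one, pow_mul, h3, one_pow, mul_one]

def OddPrin (M : Ideal AlgInt) (χ : IrrCharacter G) : Prop :=
  χ ∈ principalBlock M G ∧ Odd (charDegree (χ : G → ℂ))

theorem charDegree_gal (k : ℕ) (hk : k.Coprime (Nat.card G)) (χ : IrrCharacter G) :
    charDegree (Gal.gal k hk χ : G → ℂ) = charDegree (χ : G → ℂ) := by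
  show ⌊((Gal.gal k hk χ : G → ℂ) 1).re⌋₊ = ⌊((χ : G → ℂ) 1).re⌋₊
  rw [Gal.gal_apply, one_pow]

noncomputable def galSub (hM : IsPModular 2 M) (k : ℕ) (hk : k.Coprime (Nat.card G)) :
    Function.End {χ : IrrCharacter G // OddPrin M χ} :=
  fun x => ⟨Gal.gal k hk x.1, Gal.gal_principal hM k hk x.1 x.2.1, by
    rw [charDegree_gal k hk x.1]
    exact x.2.2⟩

theorem galSub_pow_apply (hM : IsPModular 2 M) (k : ℕ) (hk : k.Coprime (Nat.card G)) (N : ℕ) :
    ∀ (x : {χ : IrrCharacter G // OddPrin M χ}) (g : G),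
      (((galSub hM k hk ^ N) x).1 : G → ℂ) g = (x.1 : G → ℂ) (g ^ (k ^ N)) := by
  induction N with
  | zero =>
    intro x g
    rw [pow_zero, pow_zero, pow_one]
    rfl
  | succ N ih =>
    intro x g
    rw [pow_succ]
    show (((galSub hM k hk ^ N) (galSub hM k hk x)).1 : G → ℂ) g = _
    rw [ih]
    show (x.1 : G → ℂ) ((g ^ (k ^ N)) ^ k) = _
    rw [← pow_mul, ← pow_succ]

theorem even_fixed (hM : IsPModular 2 M) (hev : Even (Nat.card G)) (k : ℕ)
    (hk₁ : ∀ g : G, (∃ j : ℕ, orderOf g = 2 ^ j) → g ^ k = g ^ 3)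
    (hk₂ : ∀ g : G, Odd (orderOf g) → g ^ k = g) :
    Even (Nat.card {χ : IrrCharacter G // χ ∈ principalBlock M G ∧
      Odd (charDegree (χ : G → ℂ)) ∧ ∀ g : G, (χ : G → ℂ) (g ^ k) = (χ : G → ℂ) g}) := by
  classical
  have hfinIrr : Fintype (IrrCharacter G) := irrFintype
  have hk : k.Coprime (Nat.card G) := coprime_of_pow hk₁ hk₂
  have hf : galSub hM k hk ^ 2 ^ Nat.card G = 1 := by
    funext x
    apply Subtype.ext
    apply Subtype.ext
    funext g
    rw [galSub_pow_apply, pow_pow_fix hk₁ hk₂]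
    rfl
  have hmod : Nat.card {χ : IrrCharacter G // OddPrin M χ}
      ≡ Nat.card ↥(Function.fixedPoints (galSub hM k hk)) [MOD 2] := by
    have h := Equiv.Perm.card_fixedPoints_modEq (p := 2) hf
    simp only [Fintype.card_eq_nat_card] at h
    exact h
  have hXeven : Even (Nat.card {χ : IrrCharacter G // OddPrin M χ}) := by
    rw [Nat.card_eq_fintype_card, Fintype.card_subtype]
    obtain ⟨one, hone⟩ : ∃ one : IrrCharacter G, (one : G → ℂ) = fun _ => (1 : ℂ) :=
      ⟨⟨fun _ => 1, CharBasic.irr_trivial⟩, rfl⟩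
    have hlc : Indep.LinkClosed 2 (principalBlock M G) := by
      have h1 := Indep.linkClosed_blockOf hM one
      rw [hone] at h1
      exact h1
    have hdvd := Gal.pow_dvd_sum_sq 2 (principalBlock M G) hlc
    obtain ⟨S, hSdef⟩ : ∃ S : Finset (IrrCharacter G),
        S = Finset.univ.filter (fun χ => χ ∈ principalBlock M G) := ⟨_, rfl⟩
    have hAS : principalBlock M G = (↑S : Set (IrrCharacter G)) := by
      ext χ
      rw [hSdef, Finset.coe_filter]
      exact ⟨fun h => ⟨Finset.mem_univ _, h⟩, fun h => h.2⟩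
    rw [hAS, finsum_mem_coe_finset] at hdvd
    have h2 : 2 ∣ Nat.card G := even_iff_two_dvd.mp hev
    have hpos : 0 < (Nat.card G).factorization 2 :=
      Nat.Prime.factorization_pos_of_dvd Nat.prime_two Nat.card_pos.ne' h2
    have hsumeven : Even (∑ χ ∈ S, charDegree (χ : G → ℂ) ^ 2) := by
      rw [even_iff_two_dvd]
      exact (dvd_pow_self 2 hpos.ne').trans hdvd
    have h3 := (Finset.even_sum_iff_even_card_odd _).mp hsumeven
    have h4 : Finset.univ.filter (fun χ : IrrCharacter G => OddPrin M χ)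
        = S.filter (fun χ : IrrCharacter G => Odd (charDegree (χ : G → ℂ) ^ 2)) := by
      rw [hSdef, Finset.filter_filter]
      apply Finset.filter_congr
      intro χ _
      show (χ ∈ principalBlock M G ∧ Odd (charDegree (χ : G → ℂ))) ↔ _
      rw [Nat.odd_pow_iff (by norm_num : (2 : ℕ) ≠ 0)]
    rw [h4]
    exact h3
  have hfixeven : Even (Nat.card ↥(Function.fixedPoints (galSub hM k hk))) := by
    rw [Nat.even_iff] at hXeven ⊢
    have h1 : Nat.card {χ : IrrCharacter G // OddPrin M χ} % 2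
        = Nat.card ↥(Function.fixedPoints (galSub hM k hk)) % 2 := hmod
    omega
  have hequiv : {χ : IrrCharacter G // χ ∈ principalBlock M G ∧
      Odd (charDegree (χ : G → ℂ)) ∧ ∀ g : G, (χ : G → ℂ) (g ^ k) = (χ : G → ℂ) g}
      ≃ ↥(Function.fixedPoints (galSub hM k hk)) :=
    { toFun := fun t => ⟨⟨t.1, t.2.1, t.2.2.1⟩,
        Subtype.ext (Subtype.ext (funext fun g => t.2.2.2 g))⟩
      invFun := fun y => ⟨y.1.1, y.1.2.1, y.1.2.2, fun g =>
        congrArg (fun z : {χ : IrrCharacter G // OddPrin M χ} => (z.1 : G → ℂ) g) y.2⟩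
      left_inv := fun t => rfl
      right_inv := fun y => rfl }
  rw [Nat.card_congr hequiv]
  exact hfixeven

end Cfsg.Agent.Lib.Helper24.Gal2
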